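import Cfsg.Prelude.Def_SporadicB
import Cfsg.Prelude.Def_Solvable
import Cfsg.Agent.Lib.FiniteGroup.FittingPow
import Cfsg.Agent.Lib.Transfer.Basic
import Mathlib.GroupTheory.PGroup

/-!
Invariant sets of involutions whose non-commuting products all have the same odd prime order.
-/

set_option autoImplicit false
set_option linter.unusedSectionVars false
set_option linter.style.haveILetI false

namespace Cfsg.Agent.PTrans

universe u

variable {G : Type u} [Group G]

/-- An invariant set of elements of order at most two with all non-commuting products of order `p`. -/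
structure Hyp (p : ℕ) (D : Set G) : Prop where
  sq : ∀ a ∈ D, a * a = 1
  conj : ∀ a ∈ D, ∀ g : G, g * a * g⁻¹ ∈ D
  ord : ∀ a ∈ D, ∀ b ∈ D, ¬ Commute a b → orderOf (a * b) = p

variable {p : ℕ} [hp : Fact p.Prime] {D : Set G}

theorem two_half (hp2 : p ≠ 2) : 2 * ((p + 1) / 2) = p + 1 := by
  obtain ⟨k, hk⟩ := hp.out.odd_of_ne_two hp2
  omega

theorem sq_one_of_pow (hp2 : p ≠ 2) {g : G} (h1 : g ^ p = 1) (h2 : g * g = 1) : g = 1 := by
  obtain ⟨k, hk⟩ := hp.out.odd_of_ne_two hp2
  rwa [hk, pow_succ, pow_mul, pow_two, h2, one_pow, one_mul] at h1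

theorem half_root (hp2 : p ≠ 2) {g : G} (h1 : g ^ p = 1) : (g * g) ^ ((p + 1) / 2) = g := by
  rw [← pow_two, ← pow_mul, two_half hp2, pow_succ, h1, one_mul]

namespace Hyp

variable (h : Hyp p D)
include h

theorem inv_eq {a : G} (ha : a ∈ D) : a⁻¹ = a := inv_eq_of_mul_eq_one_right (h.sq a ha)

theorem conj_sq {a b : G} (ha : a ∈ D) (hb : b ∈ D) : a * b * a ∈ D := by
  have := h.conj b hb a
  rwa [h.inv_eq ha] at this

theorem mul_pow_p {a b : G} (ha : a ∈ D) (hb : b ∈ D) (hab : ¬ Commute a b) : (a * b) ^ p = 1 := by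
  rw [← h.ord a ha b hb hab]
  exact pow_orderOf_eq_one _

theorem mul_ne_one {a b : G} (ha : a ∈ D) (hb : b ∈ D) (hab : ¬ Commute a b) : a * b ≠ 1 := fun e => by
  have := h.ord a ha b hb hab
  rw [e, orderOf_one] at this
  exact hp.out.one_lt.ne this

theorem commute_of_sq {a b : G} (ha : a ∈ D) (hb : b ∈ D) (e : a * b * (a * b) = 1) : Commute a b := by
  have := inv_eq_of_mul_eq_one_right e
  rw [mul_inv_rev, h.inv_eq ha, h.inv_eq hb] at this
  exact this.symm

theorem not_sq {a b : G} (hp2 : p ≠ 2) (ha : a ∈ D) (hb : b ∈ D) (hab : ¬ Commute a b) :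
    (a * b) * (a * b) ≠ 1 := fun e =>
  h.mul_ne_one ha hb hab (sq_one_of_pow hp2 (h.mul_pow_p ha hb hab) e)

/-- `a * b * a` does not commute with `b` when `a` and `b` do not commute. -/
theorem swap_not_commute (hp2 : p ≠ 2) {a b : G} (ha : a ∈ D) (hb : b ∈ D) (hab : ¬ Commute a b) :
    ¬ Commute (a * b * a) b := by
  intro e
  apply h.not_sq hp2 ha hb hab
  have h2 : (a * b) * (a * b) * ((a * b) * (a * b)) = 1 := by
    calc (a * b) * (a * b) * ((a * b) * (a * b))
        = (a * b * a * b) * (a * b * a * b) := by group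
      _ = (a * b * a * b) * (b * (a * b * a)) := by rw [e.eq]
      _ = a * b * a * (b * b) * a * b * a := by group
      _ = 1 := by
        rw [h.sq b hb, mul_one, mul_assoc (a * b) a a, h.sq a ha, mul_one, mul_assoc a b b,
          h.sq b hb, mul_one, h.sq a ha]
  exact sq_one_of_pow hp2
    (by rw [← pow_two, ← pow_mul, mul_comm, pow_mul, h.mul_pow_p ha hb hab, one_pow]) h2

/-- A swapper is unique. -/
theorem swap_unique (hp2 : p ≠ 2) {a c z : G} (ha : a ∈ D) (hc : c ∈ D) (hz : z ∈ D)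
    (haz : ¬ Commute a z) (hcz : ¬ Commute c z) (e : a * z * a = c * z * c) : a = c := by
  have h1 := half_root hp2 (h.mul_pow_p hz ha fun t => haz t.symm)
  have h2 := half_root hp2 (h.mul_pow_p hz hc fun t => hcz t.symm)
  have h3 : z * a * (z * a) = z * c * (z * c) := by
    calc z * a * (z * a) = z * (a * z * a) := by group
      _ = z * (c * z * c) := by rw [e]
      _ = z * c * (z * c) := by group
  rw [h3, h2] at h1
  exact mul_left_cancel h1.symm

/-- Two non-commuting elements are swapped by a third in the subgroup they generate. -/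
theorem exists_swap (hp2 : p ≠ 2) {a c : G} (ha : a ∈ D) (hc : c ∈ D) (hac : ¬ Commute a c) :
    ∃ r ∈ D, r ∈ Subgroup.closure {a, c} ∧ r * a * r = c ∧ ¬ Commute r a := by
  set g := a * c with hg
  set n := (p + 1) / 2 with hn
  have hgp : g ^ p = 1 := h.mul_pow_p ha hc hac
  have hga : a * g * a = g⁻¹ := by
    rw [hg, mul_inv_rev, h.inv_eq ha, h.inv_eq hc, ← mul_assoc a a c, h.sq a ha, one_mul]
  have hgk : ∀ k : ℕ, a * g ^ k * a = (g ^ k)⁻¹ := fun k => by
    have := conj_pow (i := k) (a := a) (b := g)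
    rw [h.inv_eq ha, hga, inv_pow] at this
    exact this.symm
  have hgk' : ∀ k : ℕ, g ^ k * a = a * (g ^ k)⁻¹ := fun k => by
    rw [← hgk k, ← mul_assoc, ← mul_assoc, h.sq a ha, one_mul]
  have hr : a * g ^ n = (g ^ (n * n))⁻¹ * a * ((g ^ (n * n))⁻¹)⁻¹ := by
    have h2 : g ^ n = g ^ (n * n) * g ^ (n * n) := by
      rw [← pow_add, show n * n + n * n = n * (2 * n) by ring, hn, two_half hp2,
        show (p + 1) / 2 * (p + 1) = p * ((p + 1) / 2) + (p + 1) / 2 by ring, pow_add, pow_mul, hgp,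
        one_pow, one_mul]
    have h4 := hgk' (n * n)
    rw [inv_inv, h2]
    calc a * (g ^ (n * n) * g ^ (n * n)) = a * g ^ (n * n) * g ^ (n * n) := by group
      _ = (g ^ (n * n))⁻¹ * (g ^ (n * n) * a) * g ^ (n * n) * g ^ (n * n) := by group
      _ = (g ^ (n * n))⁻¹ * (a * (g ^ (n * n))⁻¹) * g ^ (n * n) * g ^ (n * n) := by rw [h4]
      _ = (g ^ (n * n))⁻¹ * a * g ^ (n * n) := by group
  have hrD : a * g ^ n ∈ D := hr ▸ h.conj a ha _
  have hmv : a * g ^ n * a * (a * g ^ n) = c := by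
    rw [show a * g ^ n * a * (a * g ^ n) = a * g ^ n * (a * a) * g ^ n by group, h.sq a ha, mul_one,
      mul_assoc, ← pow_add, ← two_mul, hn, two_half hp2, pow_succ, hgp, one_mul, hg, ← mul_assoc,
      h.sq a ha, one_mul]
  refine ⟨a * g ^ n, hrD, ?_, hmv, fun e => hac ?_⟩
  · have haK : a ∈ Subgroup.closure ({a, c} : Set G) := Subgroup.subset_closure (Or.inl rfl)
    exact mul_mem haK (pow_mem (mul_mem haK (Subgroup.subset_closure (Or.inr rfl))) n)
  · rw [e.eq, mul_assoc a, h.sq _ hrD, mul_one] at hmv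
    rw [← hmv]

/-- Two non-commuting elements are conjugate. -/
theorem isConj_of_not_commute (hp2 : p ≠ 2) {a c : G} (ha : a ∈ D) (hc : c ∈ D) (hac : ¬ Commute a c) :
    IsConj a c := by
  obtain ⟨r, hrD, -, hr, -⟩ := h.exists_swap hp2 ha hc hac
  exact isConj_iff.2 ⟨r, by rw [h.inv_eq hrD, hr]⟩

/-- An element centralising a product of non-commuting elements commutes with both. -/
theorem commute_of_centralizes (hp2 : p ≠ 2) {a b z : G} (ha : a ∈ D) (hb : b ∈ D) (hz : z ∈ D)
    (hab : ¬ Commute a b) (e : Commute z (a * b)) : Commute z a ∧ Commute z b := by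
  have hza : Commute z a := by
    by_contra hn
    set d := z * a with hd
    set g := a * b with hg
    have hinv : d * g * d⁻¹ = g⁻¹ := by
      have hz1 : z * g⁻¹ * z = g⁻¹ := by
        rw [e.inv_right.eq, mul_assoc, h.sq z hz, mul_one]
      calc d * g * d⁻¹ = z * (a * g * a⁻¹) * z⁻¹ := by rw [hd]; group
        _ = z * g⁻¹ * z := by
          rw [h.inv_eq ha, h.inv_eq hz,
            show a * g * a = g⁻¹ by
              rw [hg, mul_inv_rev, h.inv_eq ha, h.inv_eq hb, ← mul_assoc a a b, h.sq a ha, one_mul]]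
        _ = g⁻¹ := hz1
    have h2 : d * d * g * (d * d)⁻¹ = g := by
      calc d * d * g * (d * d)⁻¹ = d * (d * g * d⁻¹) * d⁻¹ := by group
        _ = d * g⁻¹ * d⁻¹ := by rw [hinv]
        _ = (d * g * d⁻¹)⁻¹ := by group
        _ = g := by rw [hinv, inv_inv]
    have h3 : Commute (d * d) g := mul_inv_eq_iff_eq_mul.1 h2
    have h4 : Commute d g := by
      have := h3.pow_left ((p + 1) / 2)
      rwa [hd, half_root hp2 (h.mul_pow_p hz ha hn)] at this
    rw [h4.eq, mul_inv_cancel_right, eq_inv_iff_mul_eq_one] at hinv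
    exact h.not_sq hp2 ha hb hab hinv
  refine ⟨hza, ?_⟩
  have := hza.mul_right e
  rwa [← mul_assoc, h.sq a ha, one_mul] at this

/-- Restriction to a subgroup. -/
theorem subgroup (K : Subgroup G) : Hyp p (((↑) : K → G) ⁻¹' D) where
  sq a ha := Subtype.ext (h.sq _ ha)
  conj a ha g := h.conj _ ha _
  ord a ha b hb hab := by
    rw [← Subgroup.orderOf_coe]
    exact h.ord _ ha _ hb fun e => hab (Subtype.ext e)

/-- Image in a quotient. -/
theorem quotient (N : Subgroup G) [N.Normal] : Hyp p ((QuotientGroup.mk' N) '' D) where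
  sq := by
    rintro _ ⟨a, ha, rfl⟩
    rw [← map_mul, h.sq a ha, map_one]
  conj := by
    rintro _ ⟨a, ha, rfl⟩ g
    obtain ⟨g, rfl⟩ := QuotientGroup.mk'_surjective N g
    exact ⟨_, h.conj a ha g, by simp⟩
  ord := by
    rintro _ ⟨a, ha, rfl⟩ _ ⟨b, hb, rfl⟩ hab
    have hn : ¬ Commute a b := fun e => hab (e.map _)
    rw [← map_mul]
    refine orderOf_eq_prime (by rw [← map_pow, h.mul_pow_p ha hb hn, map_one]) fun e => hab ?_
    rw [map_mul] at e
    rw [eq_inv_of_mul_eq_one_right e]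
    exact (Commute.refl _).inv_right

/-- A subset closed under conjugation. -/
theorem subset {D' : Set G} (hle : D' ⊆ D) (hc : ∀ a ∈ D', ∀ g : G, g * a * g⁻¹ ∈ D') : Hyp p D' :=
  ⟨fun a ha => h.sq a (hle ha), hc, fun a ha b hb => h.ord a (hle ha) b (hle hb)⟩

end Hyp

/-- The element `h` sends everything into its block: a normal subgroup. -/
theorem mem_pCore_of_fix_blocks [Finite G] (h : Hyp p D)
    (htrans : ∀ a ∈ D, ∀ b ∈ D, ∀ c ∈ D, Commute a b → Commute b c → Commute a c)
    {x s : G} (hx : x ∈ D) (hs : s ∈ D) (hxs : Commute x s)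
    (hfix : ∀ w ∈ D, Commute (x * s * w * (x * s)) w) : x * s ∈ Cfsg.pCore 2 G := by
  haveI : Fact (Nat.Prime 2) := ⟨Nat.prime_two⟩
  let K : Subgroup G :=
    { carrier := {g | ∀ w ∈ D, Commute (g * w * g⁻¹) w}
      one_mem' := fun w _ => by simp
      mul_mem' := fun {g k} hg hk w hw => by
        have h1 := hg _ (h.conj w hw k)
        rw [show g * (k * w * k⁻¹) * g⁻¹ = g * k * w * (g * k)⁻¹ by group] at h1
        exact htrans _ (h.conj w hw _) _ (h.conj w hw _) _ hw h1 (hk w hw)
      inv_mem' := fun {g} hg w hw => by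
        have h1 := hg _ (h.conj w hw g⁻¹)
        rw [show g * (g⁻¹ * w * g⁻¹⁻¹) * g⁻¹ = w by group] at h1
        exact h1.symm }
  have hKn : ∀ k ∈ K, ∀ g : G, g * k * g⁻¹ ∈ K := by
    intro k hk g w hw
    have h1 := (hk _ (h.conj w hw g⁻¹)).map (MulAut.conj g).toMonoidHom
    simp only [MulEquiv.toMonoidHom_eq_coe, MonoidHom.coe_coe, MulAut.conj_apply] at h1
    convert h1 using 1 <;> group
  have hinv : (x * s)⁻¹ = x * s := by
    rw [mul_inv_rev, h.inv_eq hx, h.inv_eq hs, hxs.eq]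
  have htK : x * s ∈ K := fun w hw => by rw [hinv]; exact hfix w hw
  have hA : ∀ g : G, g * (x * s) * g⁻¹ ∈ (Cfsg.pCore 2 K).map K.subtype := by
    intro g
    set a := g * x * g⁻¹ with ha'
    have ha : a ∈ D := h.conj x hx g
    set E := Subgroup.closure {z | z ∈ D ∧ Commute z a} with hE
    have hcomm : ∀ y ∈ E, ∀ z ∈ E, y * z = z * y := by
      refine fun y hy z hz => congrArg Subtype.val
        ((Subgroup.isMulCommutative_closure (k := {z | z ∈ D ∧ Commute z a}) ?_).is_comm.comm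
          ⟨y, hy⟩ ⟨z, hz⟩)
      exact fun y hy z hz => htrans _ hy.1 _ ha _ hz.1 hy.2 hz.2.symm
    have hexp : ∀ y ∈ E, y * y = 1 := by
      intro y hy
      induction hy using Subgroup.closure_induction with
      | mem z hz => exact h.sq z hz.1
      | one => exact one_mul 1
      | mul y z hy hz ey ez =>
        rw [mul_assoc, ← mul_assoc z, hcomm z hz y hy, mul_assoc y z z, ez, mul_one, ey]
      | inv y _ ey => rw [← mul_inv_rev, ey, inv_one]
    have hN : ((E ⊓ K).subgroupOf K).Normal := by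
      refine ⟨fun y hy k => ?_⟩
      rw [Subgroup.mem_subgroupOf] at hy ⊢
      refine ⟨?_, ((k * y * k⁻¹ : K)).2⟩
      have hmap : E.map (MulAut.conj (k : G)).toMonoidHom ≤ E := by
        rw [hE, MonoidHom.map_closure]
        refine Subgroup.closure_mono ?_
        rintro _ ⟨z, ⟨hz, hza⟩, rfl⟩
        exact ⟨h.conj z hz _, htrans _ (h.conj z hz _) _ hz _ ha (k.2 z hz) hza⟩
      exact hmap ⟨_, hy.1, rfl⟩
    have hP : IsPGroup 2 ((E ⊓ K).subgroupOf K) := by
      intro y
      refine ⟨1, Subtype.ext (Subtype.ext ?_)⟩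
      simpa [pow_two] using hexp _ (Subgroup.mem_subgroupOf.1 y.2).1
    refine ⟨⟨g * (x * s) * g⁻¹, hKn _ htK g⟩, PBasic.le_pCore hN hP ?_, rfl⟩
    rw [Subgroup.mem_subgroupOf]
    refine ⟨?_, hKn _ htK g⟩
    show g * (x * s) * g⁻¹ ∈ E
    rw [show g * (x * s) * g⁻¹ = a * (g * s * g⁻¹) by rw [ha']; group]
    refine mul_mem (Subgroup.subset_closure ⟨ha, Commute.refl a⟩)
      (Subgroup.subset_closure ⟨h.conj s hs g, ?_⟩)
    exact (hxs.symm.map (MulAut.conj g).toMonoidHom)
  set M := Subgroup.normalClosure ({x * s} : Set G) with hM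
  have hMle : M ≤ (Cfsg.pCore 2 K).map K.subtype := by
    rw [hM, Subgroup.normalClosure, Subgroup.closure_le]
    intro y hy
    rw [Group.conjugatesOfSet, Set.biUnion_singleton] at hy
    obtain ⟨g, rfl⟩ := isConj_iff.1 hy
    exact hA g
  exact PBasic.le_pCore Subgroup.normalClosure_normal
    (((FiniteGroup.pCore_isPGroup 2).map K.subtype).to_le hMle)
    (Subgroup.subset_normalClosure rfl)

end Cfsg.Agent.PTrans
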