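import Cfsg.Agent.Lib.PTrans.Minimal
import Mathlib.GroupTheory.Perm.Cycle.Basic

/-!
The action on blocks: the number of blocks is one modulo `p`.
-/

set_option autoImplicit false
set_option linter.unusedSectionVars false
set_option linter.style.haveILetI false

namespace Cfsg.Agent.PTrans

universe u

variable {G : Type u} [Group G] {p : ℕ} [hp : Fact p.Prime] {D : Set G}

/-- The commuting block of `a`. -/
def blk (D : Set G) (a : G) : Set G := {z | z ∈ D ∧ Commute z a}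

/-- The blocks. -/
def Om (D : Set G) : Type u := {S : Set G // ∃ a ∈ D, blk D a = S}

/-- The block of an element. -/
def omMk (a : G) (ha : a ∈ D) : Om D := ⟨blk D a, a, ha, rfl⟩

theorem exists_rep (β : Om D) : ∃ a, ∃ ha : a ∈ D, omMk a ha = β := by
  obtain ⟨S, a, ha, rfl⟩ := β
  exact ⟨a, ha, rfl⟩

instance [Finite G] : Finite (Om D) := by unfold Om; infer_instance

theorem blk_conj (h : Hyp p D) (g a : G) : MulAut.conj g '' blk D a = blk D (g * a * g⁻¹) := by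
  ext y
  constructor
  · rintro ⟨z, ⟨hz, hza⟩, rfl⟩
    exact ⟨h.conj z hz g, hza.map (MulAut.conj g).toMonoidHom⟩
  · rintro ⟨hy, hya⟩
    refine ⟨g⁻¹ * y * g, ⟨?_, ?_⟩, by simp [mul_assoc]⟩
    · simpa using h.conj y hy g⁻¹
    · simpa [mul_assoc] using hya.map (MulAut.conj g⁻¹).toMonoidHom

/-- Conjugation on blocks. -/
@[reducible] def omAct (h : Hyp p D) : MulAction G (Om D) where
  smul g β := ⟨MulAut.conj g '' β.1, by
    obtain ⟨S, a, ha, rfl⟩ := β
    exact ⟨_, h.conj a ha g, (blk_conj h g a).symm⟩⟩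
  one_smul β := Subtype.ext (by show MulAut.conj (1 : G) '' β.1 = β.1; simp)
  mul_smul g k β := Subtype.ext (by
    show MulAut.conj (g * k) '' β.1 = MulAut.conj g '' (MulAut.conj k '' β.1)
    rw [Set.image_image, map_mul]
    rfl)

/-- The permutation of the blocks. -/
def rho (h : Hyp p D) : G →* Equiv.Perm (Om D) :=
  letI := omAct h
  MulAction.toPermHom G (Om D)

theorem rho_omMk (h : Hyp p D) (g : G) {a : G} (ha : a ∈ D) :
    rho h g (omMk a ha) = omMk (g * a * g⁻¹) (h.conj a ha g) := Subtype.ext (blk_conj h g a)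

theorem fix_modEq {α : Type*} [Finite α] (f : Equiv.Perm α) (hf : f ^ p = 1) :
    Nat.card α ≡ Nat.card {a // f a = a} [MOD p] := by
  have hP : IsPGroup p (Subgroup.zpowers f) := by
    rintro ⟨_, k, rfl⟩
    refine ⟨1, Subtype.ext ?_⟩
    simp only [pow_one, SubgroupClass.coe_pow, OneMemClass.coe_one]
    rw [← zpow_natCast, ← zpow_mul, mul_comm, zpow_mul, zpow_natCast, hf, one_zpow]
  refine (hP.card_modEq_card_fixedPoints α).trans (Eq.subst ?_ (Nat.ModEq.refl _))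
  refine Nat.card_congr (Equiv.subtypeEquivRight fun a => ?_)
  rw [MulAction.mem_fixedPoints]
  refine ⟨fun h => h ⟨f, Subgroup.mem_zpowers f⟩, fun h => ?_⟩
  rintro ⟨_, k, rfl⟩
  exact Function.IsFixedPt.perm_zpow h k

/-- Conjugation restricted to a stable set. -/
theorem conj_fix_modEq [Finite G] {g : G} (hg : g ^ p = 1) (S : Set G) (hS : ∀ z ∈ S, g * z * g⁻¹ ∈ S) :
    Nat.card S ≡ Nat.card {z : S // g * (z : G) * g⁻¹ = z} [MOD p] := by
  let f : S → S := fun z => ⟨_, hS z z.2⟩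
  have hinj : Function.Injective f := fun y z e => Subtype.ext (by simpa [f] using congrArg Subtype.val e)
  let e : Equiv.Perm S := Equiv.ofBijective f (Finite.injective_iff_bijective.1 hinj)
  have hpow : ∀ (k : ℕ) (z : S), ((e ^ k) z : G) = g ^ k * (z : G) * (g ^ k)⁻¹ := by
    intro k
    induction k with
    | zero => intro z; simp
    | succ k ih =>
      intro z
      rw [pow_succ', Equiv.Perm.mul_apply]
      show g * ((e ^ k) z : G) * g⁻¹ = _
      rw [ih, pow_succ']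
      group
  have he : e ^ p = 1 := Equiv.ext fun z => Subtype.ext (by rw [hpow, hg]; simp)
  refine (fix_modEq e he).trans (Eq.subst ?_ (Nat.ModEq.refl _))
  exact Nat.card_congr (Equiv.subtypeEquivRight fun z => Subtype.ext_iff)

theorem card_mod_zero_of_free [Finite G] {g : G} (hg : g ^ p = 1) (S : Set G)
    (hS : ∀ z ∈ S, g * z * g⁻¹ ∈ S) (hfree : ∀ z ∈ S, ¬ Commute z g) : p ∣ Nat.card S := by
  have h1 := conj_fix_modEq hg S hS
  haveI : IsEmpty {z : S // g * (z : G) * g⁻¹ = (z : G)} :=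
    Subtype.isEmpty_of_false fun z e => hfree _ z.2 (mul_inv_eq_iff_eq_mul.1 e).symm
  rw [Nat.card_of_isEmpty (α := {z : S // g * (z : G) * g⁻¹ = (z : G)})] at h1
  exact Nat.modEq_zero_iff_dvd.1 h1

namespace Blocks

variable (B : Blocks p D)
include B

theorem omMk_eq_iff {a c : G} (ha : a ∈ D) (hc : c ∈ D) : omMk a ha = omMk c hc ↔ Commute a c := by
  constructor
  · intro e
    have he : blk D a = blk D c := congrArg Subtype.val e
    have : a ∈ blk D c := he ▸ ⟨ha, Commute.refl a⟩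
    exact this.2
  · intro e
    refine Subtype.ext (Set.ext fun z => ?_)
    exact ⟨fun hz => ⟨hz.1, B.trans z hz.1 a ha c hc hz.2 e⟩,
      fun hz => ⟨hz.1, B.trans z hz.1 c hc a ha hz.2 e.symm⟩⟩

theorem fix_iff (hp2 : p ≠ 2) {s a : G} (hs : s ∈ D) (ha : a ∈ D) :
    rho B.hyp s (omMk a ha) = omMk a ha ↔ Commute s a := by
  rw [rho_omMk, B.omMk_eq_iff, B.hyp.inv_eq hs]
  constructor
  · intro e
    by_contra hn
    exact B.hyp.swap_not_commute hp2 hs ha hn e
  · intro e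
    rw [e.eq, mul_assoc, B.hyp.sq s hs, mul_one]

theorem rho_invol {s : G} (hs : s ∈ D) {β γ : Om D} (e : rho B.hyp s β = γ) : rho B.hyp s γ = β := by
  rw [← e, ← Equiv.Perm.mul_apply, ← map_mul, B.hyp.sq s hs, map_one, Equiv.Perm.one_apply]

theorem free (hp2 : p ≠ 2) {a b z : G} (ha : a ∈ D) (hb : b ∈ D) (hab : ¬ Commute a b) (hz : z ∈ D) :
    ¬ Commute z (a * b) := fun e => by
  obtain ⟨h1, h2⟩ := B.hyp.commute_of_centralizes hp2 ha hb hz hab e
  exact hab (B.trans a ha z hz b hb h1.symm h2)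

/-- The elements mapping one block to another. -/
def Sw (β γ : Om D) : Set G := {s | s ∈ D ∧ rho B.hyp s β = γ}

theorem mem_Sw {β γ : Om D} {s : G} : s ∈ B.Sw β γ ↔ s ∈ D ∧ rho B.hyp s β = γ := Iff.rfl

theorem noncomm_sw (hp2 : p ≠ 2) {β γ : Om D} (hne : β ≠ γ) {s s' : G} (hs : s ∈ B.Sw β γ)
    (hs' : s' ∈ B.Sw β γ) (hss : s ≠ s') : ¬ Commute s s' := fun e => by
  obtain ⟨a, ha, rfl⟩ := exists_rep β
  have hmem := B.prod s hs.1 s' hs'.1 hss e
  have hfix : rho B.hyp (s * s') (omMk a ha) = omMk a ha := by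
    rw [map_mul, Equiv.Perm.mul_apply, hs'.2, B.rho_invol hs.1 hs.2]
  have h1 : Commute s a := B.trans s hs.1 _ hmem a ha ((Commute.refl s).mul_right e)
    ((B.fix_iff hp2 hmem ha).1 hfix)
  exact hne (((B.fix_iff hp2 hs.1 ha).2 h1).symm.trans hs.2)

theorem sw_self (hp2 : p ≠ 2) {a : G} (ha : a ∈ D) : B.Sw (omMk a ha) (omMk a ha) = blk D a := by
  ext s
  constructor
  · exact fun h => ⟨h.1, (B.fix_iff hp2 h.1 ha).1 h.2⟩
  · exact fun h => ⟨h.1, (B.fix_iff hp2 h.1 ha).2 h.2⟩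

theorem card_sw (hp2 : p ≠ 2) {a c : G} (ha : a ∈ D) (hc : c ∈ D) (hac : ¬ Commute a c) :
    Nat.card (B.Sw (omMk a ha) (omMk c hc)) = Nat.card (blk D c) := by
  have hns : ∀ s ∈ B.Sw (omMk a ha) (omMk c hc), ¬ Commute s a := fun s hs e =>
    hac ((B.omMk_eq_iff ha hc).1 (((B.fix_iff hp2 hs.1 ha).2 e).symm.trans hs.2))
  let f : B.Sw (omMk a ha) (omMk c hc) → blk D c := fun s => ⟨(s : G) * a * s,
    B.hyp.conj_sq s.2.1 ha, by
      have := s.2.2
      rwa [rho_omMk, B.omMk_eq_iff, B.hyp.inv_eq s.2.1] at this⟩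
  refine Nat.card_congr (Equiv.ofBijective f ⟨fun s t e => Subtype.ext ?_, fun z => ?_⟩)
  · exact B.hyp.swap_unique hp2 s.2.1 t.2.1 ha (hns _ s.2) (hns _ t.2) (congrArg Subtype.val e)
  · have haz : ¬ Commute a (z : G) := fun e => hac (B.trans a ha z z.2.1 c hc e z.2.2)
    obtain ⟨r, hr, -, hra, -⟩ := B.hyp.exists_swap hp2 ha z.2.1 haz
    refine ⟨⟨r, hr, ?_⟩, Subtype.ext hra⟩
    rw [rho_omMk, B.omMk_eq_iff, B.hyp.inv_eq hr, hra]
    exact z.2.2

theorem exists_two [Finite G] (hp2 : p ≠ 2) {β γ : Om D} (hne : β ≠ γ) :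
    ∃ s ∈ B.Sw β γ, ∃ s' ∈ B.Sw β γ, s ≠ s' := by
  obtain ⟨a, ha, rfl⟩ := exists_rep β
  obtain ⟨c, hc, rfl⟩ := exists_rep γ
  obtain ⟨c', hc', hne', hcomm⟩ := B.pair c hc
  have h1 : 1 < Nat.card (blk D c) :=
    (Set.one_lt_ncard_iff (Set.toFinite _)).2 ⟨c', c, ⟨hc', hcomm.symm⟩, ⟨hc, Commute.refl c⟩, hne'⟩
  rw [← B.card_sw hp2 ha hc fun e => hne ((B.omMk_eq_iff ha hc).2 e)] at h1
  obtain ⟨⟨s, hs⟩, ⟨s', hs'⟩, hss⟩ := (Finite.one_lt_card_iff_nontrivial.1 h1).exists_pair_ne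
  exact ⟨s, hs, s', hs', fun e => hss (Subtype.ext e)⟩

theorem stable {g a : G} (ha : a ∈ D) (hfix : rho B.hyp g (omMk a ha) = omMk a ha) :
    ∀ z ∈ blk D a, g * z * g⁻¹ ∈ blk D a := by
  intro z hz
  rw [rho_omMk, B.omMk_eq_iff] at hfix
  exact ⟨B.hyp.conj z hz.1 g, B.trans _ (B.hyp.conj z hz.1 g) _ (B.hyp.conj a ha g) a ha
    (hz.2.map (MulAut.conj g).toMonoidHom) hfix⟩

theorem dvd_blk [Finite G] (hp2 : p ≠ 2) {a : G} (ha : a ∈ D) : p ∣ Nat.card (blk D a) := by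
  obtain ⟨w, hw, haw⟩ := B.partner a ha
  have hne : omMk a ha ≠ omMk w hw := fun e => haw ((B.omMk_eq_iff ha hw).1 e)
  obtain ⟨s, hs, s', hs', hss⟩ := B.exists_two hp2 hne
  have hn := B.noncomm_sw hp2 hne hs hs' hss
  refine card_mod_zero_of_free (B.hyp.mul_pow_p hs.1 hs'.1 hn) _ (B.stable ha ?_)
    fun z hz => B.free hp2 hs.1 hs'.1 hn hz.1
  rw [map_mul, Equiv.Perm.mul_apply, hs'.2, B.rho_invol hs.1 hs.2]

theorem dvd_sw [Finite G] (hp2 : p ≠ 2) (β γ : Om D) : p ∣ Nat.card (B.Sw β γ) := by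
  obtain ⟨a, ha, rfl⟩ := exists_rep β
  obtain ⟨c, hc, rfl⟩ := exists_rep γ
  by_cases hac : Commute a c
  · rw [(B.omMk_eq_iff ha hc).2 hac, B.sw_self hp2 hc]
    exact B.dvd_blk hp2 hc
  · rw [B.card_sw hp2 ha hc hac]
    exact B.dvd_blk hp2 hc

theorem dvd_card [Finite G] (hp2 : p ≠ 2) {a : G} (ha : a ∈ D) : p ∣ Nat.card D := by
  obtain ⟨w, hw, haw⟩ := B.partner a ha
  exact card_mod_zero_of_free (B.hyp.mul_pow_p ha hw haw) D (fun z hz => B.hyp.conj z hz _)
    fun z hz => B.free hp2 ha hw haw hz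

theorem fix_card [Finite G] {g : G} (hg : g ^ p = 1) :
    Nat.card (Om D) ≡ Nat.card {β : Om D // rho B.hyp g β = β} [MOD p] :=
  fix_modEq _ (by rw [← map_pow, hg, map_one])

theorem card_om [Finite G] (hp2 : p ≠ 2) {x : G} (hx : x ∈ D) : (Nat.card (Om D) : ZMod p) = 1 := by
  classical
  have := Fintype.ofFinite (Om D)
  have := Fintype.ofFinite D
  set N := (Nat.card (Om D) : ZMod p) with hN
  let F : D → Type u := fun y => {β : Om D // rho B.hyp (y : G) β = rho B.hyp x β}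
  let e : (Σ β : Om D, B.Sw β (rho B.hyp x β)) ≃ Σ y : D, F y :=
    { toFun := fun q => ⟨⟨q.2.1, q.2.2.1⟩, q.1, q.2.2.2⟩
      invFun := fun q => ⟨q.2.1, q.1.1, q.1.2, q.2.2⟩
      left_inv := fun _ => rfl
      right_inv := fun _ => rfl }
  have hcard := Nat.card_congr e
  rw [Nat.card_sigma, Nat.card_sigma] at hcard
  have h0 : (((∑ y : D, Nat.card (F y)) : ℕ) : ZMod p) = 0 := by
    rw [← hcard, Nat.cast_sum]
    exact Finset.sum_eq_zero fun β _ => (ZMod.natCast_eq_zero_iff _ _).2 (B.dvd_sw hp2 _ _)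
  have hterm : ∀ y : D, (Nat.card (F y) : ZMod p) =
      N + if Commute (y : G) x ∧ (y : G) ≠ x then 1 - N else 0 := by
    rintro ⟨y, hy⟩
    have heq : ∀ β : Om D, rho B.hyp y β = rho B.hyp x β ↔ rho B.hyp (x * y) β = β := fun β => by
      rw [map_mul, Equiv.Perm.mul_apply]
      refine ⟨fun h => by rw [h]; exact B.rho_invol hx rfl, fun h => ?_⟩
      exact (B.rho_invol hx h).symm
    by_cases hc : Commute y x
    · by_cases hyx : y = x
      · subst hyx
        rw [if_neg (fun h => h.2 rfl), add_zero, hN]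
        congr 1
        exact Nat.card_congr (Equiv.subtypeUnivEquiv fun β => rfl)
      · rw [if_pos ⟨hc, hyx⟩, add_sub_cancel]
        have hq := B.prod x hx y hy (Ne.symm hyx) hc.symm
        haveI : Unique (F ⟨y, hy⟩) :=
          { default := ⟨omMk _ hq, (heq _).2 ((B.fix_iff hp2 hq hq).2 (Commute.refl _))⟩
            uniq := by
              rintro ⟨β, hβ⟩
              obtain ⟨a, ha, rfl⟩ := exists_rep β
              exact Subtype.ext (((B.omMk_eq_iff ha hq).2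
                ((B.fix_iff hp2 hq ha).1 ((heq _).1 hβ)).symm)) }
        rw [Nat.card_unique, Nat.cast_one]
    · rw [if_neg (fun h => hc h.1), add_zero, hN]
      refine ((ZMod.natCast_eq_natCast_iff _ _ _).2 ?_).symm
      refine (B.fix_card (B.hyp.mul_pow_p hx hy fun e => hc e.symm)).trans (Eq.subst ?_ (Nat.ModEq.refl _))
      exact Nat.card_congr (Equiv.subtypeEquivRight fun β => (heq β).symm)
  rw [Nat.cast_sum, Finset.sum_congr rfl fun y _ => hterm y, Finset.sum_add_distrib, Finset.sum_const,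
    Finset.card_univ, ← Nat.card_eq_fintype_card, nsmul_eq_mul,
    (ZMod.natCast_eq_zero_iff _ _).2 (B.dvd_card hp2 hx), zero_mul, zero_add, ← Finset.sum_filter,
    Finset.sum_const, nsmul_eq_mul] at h0
  have hC : ((Finset.univ.filter fun y : D => Commute (y : G) x ∧ (y : G) ≠ x).card + 1 : ℕ) =
      Nat.card (blk D x) := by
    have h1 : Nat.card {y : D // Commute (y : G) x ∧ (y : G) ≠ x} = (blk D x \ {x}).ncard := by
      rw [← Nat.card_coe_set_eq]
      exact Nat.card_congr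
        ⟨fun y => ⟨y.1.1, ⟨y.1.2, y.2.1⟩, y.2.2⟩, fun z => ⟨⟨z.1, z.2.1.1⟩, z.2.1.2, z.2.2⟩,
          fun _ => rfl, fun _ => rfl⟩
    rw [Nat.card_eq_fintype_card, Fintype.card_subtype] at h1
    rw [h1, Set.ncard_diff_singleton_add_one (show x ∈ blk D x from ⟨hx, Commute.refl x⟩) (Set.toFinite _),
      Nat.card_coe_set_eq]
  have hC' := (ZMod.natCast_eq_zero_iff _ _).2 (B.dvd_blk hp2 hx)
  rw [← hC, Nat.cast_add, Nat.cast_one] at hC'
  rw [eq_neg_of_add_eq_zero_left hC'] at h0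
  linear_combination h0

end Blocks

end Cfsg.Agent.PTrans
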