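import Cfsg.Agent.Lib.PTrans.Count
import Cfsg.Agent.Lib.ZStarApps.Fischer
import Mathlib.Algebra.Ring.Int.Parity
import Mathlib.FieldTheory.Finite.Basic

/-!
No smallest configuration exists.
-/

set_option autoImplicit false
set_option linter.unusedSectionVars false
set_option linter.style.haveILetI false

namespace Cfsg.Agent.PTrans

universe u

variable {G : Type u} [Group G] {p : ℕ} [hp : Fact p.Prime] {D : Set G}

theorem odd_quot (p : ℕ) (hodd : Odd p) : ∀ m : ℕ, ∃ K : ℤ, Odd K ∧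
    (p : ℤ) ^ (2 * m + 1) + 1 = ((p : ℤ) + 1) * K
  | 0 => ⟨1, odd_one, by simp⟩
  | m + 1 => by
    obtain ⟨K, hK, e⟩ := odd_quot p hodd m
    have hp' : Odd (p : ℤ) := Int.odd_coe_nat p |>.2 hodd
    refine ⟨(p : ℤ) ^ 2 * K - ((p : ℤ) - 1), (hp'.pow.mul hK).sub_even (hp'.sub_odd odd_one), ?_⟩
    calc (p : ℤ) ^ (2 * (m + 1) + 1) + 1 = (p : ℤ) ^ 2 * ((p : ℤ) ^ (2 * m + 1)) + 1 := by ring
      _ = (p : ℤ) ^ 2 * (((p : ℤ) + 1) * K - 1) + 1 := by rw [← e]; ring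
      _ = ((p : ℤ) + 1) * ((p : ℤ) ^ 2 * K - ((p : ℤ) - 1)) := by ring

theorem eq_one_of_pow_add_one {n c : ℕ} (hp2 : p ≠ 2) (hn : n ≠ 0) (e : p ^ n + 1 = 2 ^ c) :
    n = 1 := by
  have hodd := hp.out.odd_of_ne_two hp2
  have hgt := hp.out.one_lt
  rcases Nat.even_or_odd' n with ⟨m, rfl | rfl⟩
  · exfalso
    obtain ⟨k, hk⟩ := hodd.pow (n := m)
    rw [mul_comm, pow_mul, hk] at e
    obtain _ | _ | c := c
    · simp at e
    · have h1 : 1 < p ^ m := Nat.one_lt_pow (by omega) hgt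
      have h2 : k = 0 := by
        norm_num at e
        nlinarith
      omega
    · have h2 : (2 * k + 1) ^ 2 + 1 = 4 * (k * k + k) + 2 := by ring
      have h3 : 2 ^ (c + 1 + 1) = 4 * 2 ^ c := by ring
      rw [h2, h3] at e
      omega
  · obtain ⟨K, hK, hKe⟩ := odd_quot p hodd m
    have h1 : (p + 1) * K.natAbs = 2 ^ c := by
      rw [← e]
      have := congrArg Int.natAbs hKe
      rw [Int.natAbs_mul] at this
      rw [show ((p : ℤ) + 1).natAbs = p + 1 from Int.natAbs_natCast (p + 1),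
        show ((p : ℤ) ^ (2 * m + 1) + 1).natAbs = p ^ (2 * m + 1) + 1 from
          Int.natAbs_natCast (p ^ (2 * m + 1) + 1)] at this
      exact this.symm
    have h2 : K.natAbs = 1 := by
      refine Nat.eq_one_of_dvd_coprimes (Nat.Coprime.pow_left c ?_) (Dvd.intro_left _ h1) dvd_rfl
      exact (Nat.coprime_two_left).2 (Int.natAbs_odd.2 hK)
    rw [h2, mul_one, ← e, add_left_inj] at h1
    have := Nat.pow_right_injective hp.out.two_le (show p ^ 1 = p ^ (2 * m + 1) by rw [pow_one]; exact h1)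
    omega

theorem zpowers_eq {q t : G} (hq : orderOf q = p) (ht : t ∈ Subgroup.zpowers q) (ht1 : t ≠ 1) :
    Subgroup.zpowers t = Subgroup.zpowers q := by
  haveI : Finite (Subgroup.zpowers q) :=
    Nat.finite_of_card_ne_zero (by rw [Nat.card_zpowers, hq]; exact hp.out.ne_zero)
  have h2 : orderOf t = p := ((Nat.dvd_prime hp.out).1 (hq ▸ orderOf_dvd_of_mem_zpowers ht)).resolve_left
    (mt orderOf_eq_one_iff.1 ht1)
  exact Subgroup.eq_of_le_of_card_ge (Subgroup.zpowers_le.2 ht)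
    (by rw [Nat.card_zpowers, Nat.card_zpowers, hq, h2])

namespace Blocks

variable (B : Blocks p D)
include B

theorem conj_sw {β γ : Om D} {g s : G} (h1 : rho B.hyp g β = β) (h2 : rho B.hyp g γ = γ)
    (hs : s ∈ B.Sw β γ) : g * s * g⁻¹ ∈ B.Sw β γ := by
  refine ⟨B.hyp.conj s hs.1 g, ?_⟩
  have h3 : rho B.hyp g⁻¹ β = β := by
    rw [map_inv, Equiv.Perm.inv_eq_iff_eq, h1]
  rw [map_mul, map_mul, Equiv.Perm.mul_apply, Equiv.Perm.mul_apply, h3, hs.2, h2]

theorem sw_ppow [Finite G] (hp2 : p ≠ 2) {β γ : Om D} (hne : β ≠ γ) :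
    ∃ n, Nat.card (B.Sw β γ) = p ^ n := by
  obtain ⟨s0, hs0, -⟩ := B.exists_two hp2 hne
  set K := Subgroup.closure (B.Sw β γ) with hK
  have hKS : ∀ g ∈ K, ∀ s ∈ B.Sw β γ, g * s * g⁻¹ ∈ B.Sw β γ := by
    intro g hg
    induction hg using Subgroup.closure_induction'' with
    | mem t ht =>
      intro s hs
      refine ⟨B.hyp.conj s hs.1 t, ?_⟩
      rw [map_mul, map_mul, Equiv.Perm.mul_apply, Equiv.Perm.mul_apply, B.hyp.inv_eq ht.1, ht.2,
        B.rho_invol hs.1 hs.2, ht.2]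
    | inv_mem t ht =>
      intro s hs
      refine ⟨B.hyp.conj s hs.1 _, ?_⟩
      rw [B.hyp.inv_eq ht.1, map_mul, map_mul, B.hyp.inv_eq ht.1, Equiv.Perm.mul_apply,
        Equiv.Perm.mul_apply, ht.2, B.rho_invol hs.1 hs.2, ht.2]
    | one => intro s hs; simpa using hs
    | mul y z _ _ hy hz =>
      intro s hs
      rw [show y * z * s * (y * z)⁻¹ = y * (z * s * z⁻¹) * y⁻¹ by group]
      exact hy _ (hz _ hs)
  set d : K := ⟨s0, Subgroup.subset_closure hs0⟩ with hd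
  have hord : orderOf d = 2 := by
    rw [← Subgroup.orderOf_coe]
    exact orderOf_eq_prime (by rw [pow_two]; exact B.hyp.sq _ hs0.1) (B.ne_one _ hs0.1)
  have hcl : ∀ a ∈ conjugatesOf d, (a : G) ∈ B.Sw β γ := by
    intro a ha
    obtain ⟨g, rfl⟩ := isConj_iff.1 ha
    exact hKS _ g.2 _ hs0
  have hprod := ZStarApps.products_mem_pCore hp.out hp2 d hord fun a ha b hb => by
    by_cases hab : (a : G) = b
    · refine ⟨0, ?_⟩
      rw [pow_zero, ← Subgroup.orderOf_coe, Subgroup.coe_mul, hab, B.hyp.sq _ (hcl b hb).1, orderOf_one]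
    · refine ⟨1, ?_⟩
      rw [pow_one, ← Subgroup.orderOf_coe, Subgroup.coe_mul]
      exact B.hyp.ord _ (hcl a ha).1 _ (hcl b hb).1 (B.noncomm_sw hp2 hne (hcl a ha) (hcl b hb) hab)
  set P := (Cfsg.pCore p K).map K.subtype with hP
  have horb : ∀ s' ∈ B.Sw β γ, ∃ q ∈ P, q * s0 * q⁻¹ = s' := by
    intro s' hs'
    by_cases e : s0 = s'
    · exact ⟨1, one_mem _, by simp [e]⟩
    have hn := B.noncomm_sw hp2 hne hs0 hs' e
    obtain ⟨r, hrD, hr, hr', -⟩ := B.hyp.exists_swap hp2 hs0.1 hs'.1 hn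
    have hrK : r ∈ K := (Subgroup.closure_le _).2 (by
      rintro y (rfl | rfl)
      · exact Subgroup.subset_closure hs0
      · exact Subgroup.subset_closure hs') hr
    have hc : (⟨s', Subgroup.subset_closure hs'⟩ : K) ∈ conjugatesOf d := by
      refine isConj_iff.2 ⟨⟨r, hrK⟩, Subtype.ext ?_⟩
      show r * s0 * r⁻¹ = s'
      rw [B.hyp.inv_eq hrD, hr']
    have hg : s0 * s' ∈ P := ⟨_, hprod d (isConj_iff.2 ⟨1, by simp⟩) _ hc, rfl⟩
    refine ⟨((s0 * s') ^ ((p + 1) / 2))⁻¹, inv_mem (pow_mem hg _), ?_⟩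
    set g := s0 * s' with hgdef
    have hgp : g ^ p = 1 := B.hyp.mul_pow_p hs0.1 hs'.1 hn
    have hga : s0 * g * s0 = g⁻¹ := by
      rw [hgdef, mul_inv_rev, B.hyp.inv_eq hs0.1, B.hyp.inv_eq hs'.1, ← mul_assoc s0 s0 s',
        B.hyp.sq s0 hs0.1, one_mul]
    have hgn : s0 * g ^ ((p + 1) / 2) * s0 = (g ^ ((p + 1) / 2))⁻¹ := by
      have := conj_pow (i := (p + 1) / 2) (a := s0) (b := g)
      rw [B.hyp.inv_eq hs0.1, hga, inv_pow] at this
      exact this.symm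
    calc (g ^ ((p + 1) / 2))⁻¹ * s0 * (g ^ ((p + 1) / 2))⁻¹⁻¹
        = s0 * g ^ ((p + 1) / 2) * s0 * s0 * g ^ ((p + 1) / 2) := by rw [hgn, inv_inv]
      _ = s0 * (g * g) ^ ((p + 1) / 2) := by
        rw [mul_assoc (s0 * _) s0 s0, B.hyp.sq s0 hs0.1, mul_one, mul_assoc, ← pow_add, ← two_mul,
          pow_mul, pow_two]
      _ = s' := by rw [half_root hp2 hgp, hgdef, ← mul_assoc, B.hyp.sq s0 hs0.1, one_mul]
  have hPK : P ≤ K := Subgroup.map_subtype_le _
  set P0 : Subgroup (ConjAct G) := P.map ConjAct.toConjAct.toMonoidHom with hP0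
  have hP0p : IsPGroup p P0 := ((FiniteGroup.pCore_isPGroup p).map _).map _
  obtain ⟨n, hn⟩ := hP0p.card_orbit (a := s0)
  refine ⟨n, ?_⟩
  rw [← hn]
  refine congrArg _ (congrArg _ (Set.ext fun s' => ?_))
  constructor
  · intro hs'
    obtain ⟨q, hq, rfl⟩ := horb s' hs'
    exact ⟨⟨ConjAct.toConjAct q, q, hq, rfl⟩, rfl⟩
  · rintro ⟨⟨_, q, hq, rfl⟩, rfl⟩
    exact hKS q (hPK hq) _ hs0

theorem card_blk [Finite G] (hp2 : p ≠ 2) {a : G} (ha : a ∈ D) : Nat.card (blk D a) = p := by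
  obtain ⟨w, hw, haw⟩ := B.partner a ha
  have hwa : ¬ Commute w a := fun e => haw e.symm
  obtain ⟨n, hn⟩ := B.sw_ppow hp2 (β := omMk w hw) (γ := omMk a ha)
    fun e => hwa ((B.omMk_eq_iff hw ha).1 e)
  rw [B.card_sw hp2 hw ha hwa] at hn
  have hn0 : n ≠ 0 := by
    rintro rfl
    have h1 := B.dvd_blk hp2 ha
    rw [hn, pow_zero, Nat.dvd_one] at h1
    exact hp.out.one_lt.ne' h1
  let E : Subgroup G :=
    { carrier := insert 1 (blk D a)
      one_mem' := Or.inl rfl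
      mul_mem' := by
        rintro y z (rfl | hy) (rfl | hz)
        · exact Or.inl (one_mul 1)
        · rw [one_mul]; exact Or.inr hz
        · rw [mul_one]; exact Or.inr hy
        · by_cases e : y = z
          · exact Or.inl (by rw [e]; exact B.hyp.sq z hz.1)
          · exact Or.inr ⟨B.prod y hy.1 z hz.1 e (B.trans _ hy.1 a ha _ hz.1 hy.2 hz.2.symm),
              hy.2.mul_left hz.2⟩
      inv_mem' := by
        rintro y (rfl | hy)
        · exact Or.inl inv_one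
        · rw [B.hyp.inv_eq hy.1]; exact Or.inr hy }
  have hE : IsPGroup 2 E := by
    rintro ⟨y, hy⟩
    refine ⟨1, Subtype.ext ?_⟩
    rcases hy with rfl | hy
    · simp
    · simpa [pow_two] using B.hyp.sq y hy.1
  haveI : Fact (Nat.Prime 2) := ⟨Nat.prime_two⟩
  obtain ⟨c, hc⟩ := IsPGroup.iff_card.1 hE
  have hcard : Nat.card E = p ^ n + 1 := by
    rw [← hn]
    show Nat.card ↥(insert 1 (blk D a)) = _
    rw [Nat.card_coe_set_eq, Nat.card_coe_set_eq,
      Set.ncard_insert_of_notMem (fun h => B.ne_one 1 h.1 rfl) (Set.toFinite _)]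
  rw [hn, eq_one_of_pow_add_one hp2 hn0 (hcard.symm.trans hc), pow_one]

theorem line [Finite G] (hp2 : p ≠ 2) {β γ : Om D} (hne : β ≠ γ) {s : G} (hs : s ∈ B.Sw β γ) :
    ∃ q, orderOf q = p ∧ s * q * s = q⁻¹ ∧ rho B.hyp q β = β ∧ rho B.hyp q γ = γ ∧
      (∀ z ∈ D, ¬ Commute z q) ∧
      ∀ h : G, h ^ p = 1 → rho B.hyp h β = β → rho B.hyp h γ = γ → h ∈ Subgroup.zpowers q := by
  obtain ⟨s1, hs1, hs1s⟩ : ∃ s1 ∈ B.Sw β γ, s1 ≠ s := by
    obtain ⟨t, ht, t', ht', htt⟩ := B.exists_two hp2 hne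
    by_cases e : t = s
    · exact ⟨t', ht', fun e' => htt (e.trans e'.symm)⟩
    · exact ⟨t, ht, e⟩
  have hn := B.noncomm_sw hp2 hne hs hs1 (Ne.symm hs1s)
  set q := s * s1 with hqdef
  have hq : orderOf q = p := B.hyp.ord _ hs.1 _ hs1.1 hn
  have hinv : s * q * s = q⁻¹ := by
    rw [hqdef, mul_inv_rev, B.hyp.inv_eq hs.1, B.hyp.inv_eq hs1.1, ← mul_assoc s s s1,
      B.hyp.sq s hs.1, one_mul]
  have hqβ : rho B.hyp q β = β := by
    rw [map_mul, Equiv.Perm.mul_apply, hs1.2, B.rho_invol hs.1 hs.2]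
  have hqγ : rho B.hyp q γ = γ := by
    rw [map_mul, Equiv.Perm.mul_apply, B.rho_invol hs1.1 hs1.2, hs.2]
  have hfree : ∀ z ∈ D, ¬ Commute z q := fun z hz => B.free hp2 hs.1 hs1.1 hn hz
  refine ⟨q, hq, hinv, hqβ, hqγ, hfree, fun h hh hhβ hhγ => ?_⟩
  have htfix : ∀ t ∈ Subgroup.zpowers q, rho B.hyp t β = β ∧ rho B.hyp t γ = γ := by
    rintro _ ⟨k, rfl⟩
    simp only [map_zpow]
    exact ⟨Function.IsFixedPt.perm_zpow hqβ k, Function.IsFixedPt.perm_zpow hqγ k⟩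
  have hsn : ∀ t ∈ Subgroup.zpowers q, Commute t s → t = 1 := by
    intro t ht e
    by_contra ht1
    obtain ⟨k, hk⟩ : q ∈ Subgroup.zpowers t := by
      rw [zpowers_eq hq ht ht1]
      exact Subgroup.mem_zpowers q
    exact hfree s hs.1 (hk ▸ (e.zpow_left k).symm)
  let f : Subgroup.zpowers q → B.Sw β γ := fun t =>
    ⟨t * s * (t : G)⁻¹, B.conj_sw (htfix t t.2).1 (htfix t t.2).2 hs⟩
  have hcard : Nat.card (B.Sw β γ) = p := by
    obtain ⟨a, ha, rfl⟩ := exists_rep β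
    obtain ⟨c, hc, rfl⟩ := exists_rep γ
    rw [B.card_sw hp2 ha hc fun e => hne ((B.omMk_eq_iff ha hc).2 e), B.card_blk hp2 hc]
  have hf : Function.Bijective f := by
    refine (Nat.bijective_iff_injective_and_card f).2 ⟨fun t t' e => ?_, by
      rw [Nat.card_zpowers, hq, hcard]⟩
    have e' : (t : G) * s * (t : G)⁻¹ = t' * s * (t' : G)⁻¹ := congrArg Subtype.val e
    refine Subtype.ext (inv_mul_eq_one.1 (hsn _ (mul_mem (inv_mem t.2) t'.2) ?_))
    calc (t : G)⁻¹ * t' * s = (t : G)⁻¹ * (t' * s * (t' : G)⁻¹) * t' := by group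
      _ = (t : G)⁻¹ * (t * s * (t : G)⁻¹) * t' := by rw [e']
      _ = s * ((t : G)⁻¹ * t') := by group
  obtain ⟨⟨t, ht⟩, hte⟩ := hf.2 ⟨_, B.conj_sw hhβ hhγ hs⟩
  obtain ⟨⟨t', ht'⟩, hte'⟩ := hf.2 ⟨_, B.conj_sw hhβ hhγ hs1⟩
  have hte : t * s * t⁻¹ = h * s * h⁻¹ := congrArg Subtype.val hte
  have hte' : t' * s * t'⁻¹ = h * s1 * h⁻¹ := congrArg Subtype.val hte'
  have hsw : ∀ t ∈ Subgroup.zpowers q, s * t * s = t⁻¹ := by
    rintro _ ⟨k, rfl⟩
    have := conj_zpow (i := k) (a := s) (b := q)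
    rw [B.hyp.inv_eq hs.1, hinv, inv_zpow] at this
    exact this.symm
  have hnorm : h * q * h⁻¹ ∈ Subgroup.zpowers q := by
    have h1 : h * q * h⁻¹ = t * (s * t⁻¹ * t' * s) * t'⁻¹ := by
      calc h * q * h⁻¹ = h * s * h⁻¹ * (h * s1 * h⁻¹) := by rw [hqdef]; group
        _ = _ := by rw [← hte, ← hte']; group
    rw [h1, mul_assoc s, hsw _ (mul_mem (inv_mem ht) ht')]
    exact mul_mem (mul_mem ht (inv_mem (mul_mem (inv_mem ht) ht'))) (inv_mem ht')
  obtain ⟨k, hk⟩ := hnorm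
  have hk : q ^ k = h * q * h⁻¹ := hk
  have hiter : ∀ m : ℕ, h ^ m * q * (h ^ m)⁻¹ = q ^ (k ^ m) := by
    intro m
    induction m with
    | zero => simp
    | succ m ih =>
      rw [pow_succ, show h ^ m * h * q * (h ^ m * h)⁻¹ = h ^ m * (h * q * h⁻¹) * (h ^ m)⁻¹ by group,
        ← hk, ← conj_zpow, ih, ← zpow_mul, pow_succ]
  have hk1 : q ^ k = q := by
    have h1 := hiter p
    rw [hh, inv_one, one_mul, mul_one] at h1
    conv_rhs => rw [h1]
    refine zpow_eq_zpow_iff_modEq.2 ?_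
    rw [hq, ← ZMod.intCast_eq_intCast_iff]
    push_cast
    rw [ZMod.pow_card]
  have hcq : Commute h q := mul_inv_eq_iff_eq_mul.1 (hk.symm.trans hk1)
  set g := t⁻¹ * h with hg
  have hgq : Commute g q := by
    obtain ⟨j, hj⟩ := ht
    have hj : q ^ j = t := hj
    exact (hj ▸ ((Commute.refl q).zpow_left j)).inv_left.mul_left hcq
  have hgs : Commute g s := by
    calc t⁻¹ * h * s = t⁻¹ * (h * s * h⁻¹) * h := by group
      _ = t⁻¹ * (t * s * t⁻¹) * h := by rw [hte]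
      _ = s * (t⁻¹ * h) := by group
  have hht : Commute t⁻¹ h := by
    obtain ⟨j, hj⟩ := ht
    have hj : q ^ j = t := hj
    exact (hj ▸ hcq.zpow_right j).symm.inv_left
  have hgp : g ^ p = 1 := by
    rw [hg, hht.mul_pow, hh, mul_one, inv_pow, inv_eq_one]
    have : orderOf t ∣ p := hq ▸ orderOf_dvd_of_mem_zpowers ht
    exact orderOf_dvd_iff_pow_eq_one.1 this
  have hblk : ∀ z ∈ blk D s, g * z * g⁻¹ ∈ blk D s := fun z hz =>
    ⟨B.hyp.conj z hz.1 g, by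
      have := hz.2.map (MulAut.conj g).toMonoidHom
      simp only [MulEquiv.toMonoidHom_eq_coe, MonoidHom.coe_coe, MulAut.conj_apply] at this
      rwa [hgs.eq, mul_inv_cancel_right] at this⟩
  obtain ⟨s'', hs''D, hs''ne, hs''c⟩ := B.pair s hs.1
  have hall : g * s'' * g⁻¹ = s'' := by
    by_contra hne'
    have h1 := conj_fix_modEq hgp (blk D s) hblk
    rw [B.card_blk hp2 hs.1] at h1
    have hpos : 0 < Nat.card {z : blk D s // g * (z : G) * g⁻¹ = z} :=
      Nat.card_pos_iff.2 ⟨⟨⟨⟨s, hs.1, Commute.refl s⟩, by simp [hgs.eq]⟩⟩, inferInstance⟩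
    have hlt : Nat.card {z : blk D s // g * (z : G) * g⁻¹ = z} < p := by
      rw [← B.card_blk hp2 hs.1]
      exact Finite.card_subtype_lt (x := ⟨s'', hs''D, hs''c.symm⟩) hne'
    have h2 : Nat.card {z : blk D s // g * (z : G) * g⁻¹ = z} % p = 0 := by
      rw [← h1, Nat.mod_self]
    rw [Nat.mod_eq_of_lt hlt] at h2
    omega
  have hg1 : g = 1 := by
    refine B.rigid g s hs.1 s'' hs''D s1 hs1.1 (Ne.symm hs''ne) hs''c hn hgs
      (mul_inv_eq_iff_eq_mul.1 hall) ?_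
    have := hgs.mul_right hgq
    rwa [hqdef, ← mul_assoc, B.hyp.sq s hs.1, one_mul] at this
  rw [← inv_mul_eq_one.1 hg1]
  exact ht

theorem not_nonempty [Finite G] (hp2 : p ≠ 2) {x : G} (hx : x ∈ D) : False := by
  obtain ⟨w, hw, hxw⟩ := B.partner x hx
  set β := omMk x hx with hβ
  set γ := omMk w hw with hγ
  have hne : β ≠ γ := fun e => hxw ((B.omMk_eq_iff hx hw).1 e)
  obtain ⟨s, hs, -⟩ := B.exists_two hp2 hne
  obtain ⟨q, hq, hsq, hqβ, hqγ, hfree, -⟩ := B.line hp2 hne hs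
  have hq1 : q ≠ 1 := fun e => by rw [e, orderOf_one] at hq; exact hp.out.one_lt.ne hq
  have hqp : q ^ p = 1 := by rw [← hq]; exact pow_orderOf_eq_one q
  set Φ := {δ : Om D // rho B.hyp q δ = δ}
  have hΦ : (Nat.card Φ : ZMod p) = 1 := by
    rw [← B.card_om hp2 hx, ZMod.natCast_eq_natCast_iff]
    exact (B.fix_card hqp).symm
  obtain ⟨δ, hδq, hδβ, hδγ⟩ : ∃ δ, rho B.hyp q δ = δ ∧ δ ≠ β ∧ δ ≠ γ := by
    by_contra hno
    push_neg at hno
    have h2 : Nat.card Φ = 2 := by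
      rw [Nat.card_eq_two_iff' (⟨β, hqβ⟩ : Φ)]
      refine ⟨⟨γ, hqγ⟩, fun e => hne (congrArg Subtype.val e).symm, fun y hy => Subtype.ext ?_⟩
      exact hno y.1 y.2 fun e => hy (Subtype.ext e)
    rw [h2, Nat.cast_ofNat] at hΦ
    have : (1 : ZMod p) = 0 := by linear_combination hΦ
    exact one_ne_zero this
  obtain ⟨s'', hs''⟩ : ∃ s'', s'' ∈ B.Sw β δ := by
    obtain ⟨t, ht, -⟩ := B.exists_two hp2 (Ne.symm hδβ)
    exact ⟨t, ht⟩
  obtain ⟨q'', hq'', hsq'', -, -, -, hline''⟩ := B.line hp2 (Ne.symm hδβ) hs''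
  have hs''q : s'' * q * s'' = q⁻¹ := by
    obtain ⟨k, hk⟩ := hline'' q hqp hqβ hδq
    have hk : q'' ^ k = q := hk
    have := conj_zpow (i := k) (a := s'') (b := q'')
    rw [B.hyp.inv_eq hs''.1, hsq'', inv_zpow, hk] at this
    exact this.symm
  have hss : s ≠ s'' := fun e => hδγ (by rw [← hs.2, e]; exact hs''.2.symm)
  set d := s * s'' with hd
  have hdq : Commute d q := by
    calc s * s'' * q = s * (s'' * q * s'') * s'' := by
          simp only [mul_assoc, B.hyp.sq _ hs''.1, mul_one]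
      _ = s * q⁻¹ * s'' := by rw [hs''q]
      _ = (s * q * s⁻¹)⁻¹ * (s * s'') := by group
      _ = q * (s * s'') := by rw [B.hyp.inv_eq hs.1, hsq, inv_inv]
  have hnc : ¬ Commute s s'' := fun e => hfree _ (B.prod s hs.1 s'' hs''.1 hss e) hdq
  have hdp : d ^ p = 1 := B.hyp.mul_pow_p hs.1 hs''.1 hnc
  have hperm : ∀ δ, rho B.hyp q (rho B.hyp d δ) = rho B.hyp d δ ↔ rho B.hyp q δ = δ := by
    intro δ
    rw [← Equiv.Perm.mul_apply, ← map_mul, ← hdq.eq, map_mul, Equiv.Perm.mul_apply,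
      EmbeddingLike.apply_eq_iff_eq]
  let f : Equiv.Perm Φ := (rho B.hyp d).subtypePerm hperm
  obtain ⟨⟨ε, hεq⟩, hεd⟩ : ∃ ε : Φ, f ε = ε := by
    by_contra hno
    push_neg at hno
    have h1 := fix_modEq f (by
      refine Equiv.ext fun a => Subtype.ext ?_
      rw [Equiv.Perm.subtypePerm_pow]
      show (rho B.hyp d ^ p) (a : Om D) = a
      rw [← map_pow, hdp, map_one, Equiv.Perm.one_apply] : f ^ p = 1)
    haveI : IsEmpty {a : Φ // f a = a} := Subtype.isEmpty_of_false fun a e => hno a e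
    rw [Nat.card_of_isEmpty (α := {a : Φ // f a = a}), ← ZMod.natCast_eq_natCast_iff, hΦ,
      Nat.cast_zero] at h1
    exact one_ne_zero h1
  have hεd : rho B.hyp d ε = ε := congrArg Subtype.val hεd
  set ε' := rho B.hyp s ε with hε'
  have hinvfix : ∀ g, s * g * s = g⁻¹ → rho B.hyp g ε = ε → rho B.hyp g ε' = ε' := by
    intro g hg hgε
    have hgs : g * s = s * g⁻¹ := by
      rw [← hg, ← mul_assoc, ← mul_assoc, B.hyp.sq s hs.1, one_mul]
    rw [hε', ← Equiv.Perm.mul_apply, ← map_mul, hgs, map_mul, Equiv.Perm.mul_apply, map_inv,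
      Equiv.Perm.inv_eq_iff_eq.2 hgε.symm]
  have hdinv : s * d * s = d⁻¹ := by
    rw [hd, mul_inv_rev, B.hyp.inv_eq hs.1, B.hyp.inv_eq hs''.1, ← mul_assoc s s s'',
      B.hyp.sq s hs.1, one_mul]
  have hεε' : ε ≠ ε' := by
    intro e
    obtain ⟨a, ha, rfl⟩ := exists_rep ε
    have h1 : Commute s a := (B.fix_iff hp2 hs.1 ha).1 e.symm
    have hq' : rho B.hyp q⁻¹ (omMk a ha) = omMk a ha := by
      rw [map_inv, Equiv.Perm.inv_eq_iff_eq, hεq]
    have hts := B.conj_sw hqβ hqγ hs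
    have h2 : Commute (q * s * q⁻¹) a := (B.fix_iff hp2 hts.1 ha).1 (by
      rw [map_mul, map_mul, Equiv.Perm.mul_apply, Equiv.Perm.mul_apply, hq', ← hε', ← e, hεq])
    have hqs : q * s * q⁻¹ ≠ s := fun e' => hfree s hs.1 (mul_inv_eq_iff_eq_mul.1 e').symm
    exact B.noncomm_sw hp2 hne hts hs hqs (B.trans _ hts.1 a ha s hs.1 h2 h1.symm)
  obtain ⟨q', hq', -, -, -, -, hline'⟩ := B.line hp2 hεε' ⟨hs.1, hε'.symm⟩
  have hdq' : d ∈ Subgroup.zpowers q := by
    have h1 := hline' q hqp hεq (hinvfix q hsq hεq)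
    have h2 := hline' d hdp hεd (hinvfix d hdinv hεd)
    rwa [zpowers_eq hq' h1 hq1]
  obtain ⟨k, hk⟩ := hdq'
  have hdδ : rho B.hyp d δ = δ := by
    rw [← hk]
    simp only [map_zpow]
    exact Function.IsFixedPt.perm_zpow hδq k
  rw [hd, map_mul, Equiv.Perm.mul_apply, B.rho_invol hs''.1 hs''.2, hs.2] at hdδ
  exact hδγ hdδ.symm

end Blocks

theorem good_aux (hp2 : p ≠ 2) : ∀ (n : ℕ) (G : Type u) [Group G] [Finite G],
    Nat.card G = n → Good p G := by
  intro n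
  induction n using Nat.strong_induction_on with
  | _ n ih =>
    intro G _ _ hn D hD x u w c
    have hD' : Hyp p (conjugatesOf x) := hD.subset
      (fun a ha => by obtain ⟨g, rfl⟩ := isConj_iff.1 ha; exact hD.conj x c.hx g)
      (fun a ha g => IsConj.trans ha (isConj_iff.2 ⟨g, rfl⟩))
    have hw' : w ∈ conjugatesOf x := hD.isConj_of_not_commute hp2 c.hx c.hw c.hxw
    have hu' : u ∈ conjugatesOf x :=
      IsConj.trans hw' (hD.isConj_of_not_commute hp2 c.hw c.hu fun e => c.huw e.symm)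
    have c' : Cx (conjugatesOf x) x u w :=
      ⟨IsConj.refl x, hu', hw', c.hne, c.hxu, c.hxw, c.huw, c.bad⟩
    exact (c'.blocks (fun K _ _ hK => ih _ (hn ▸ hK) K rfl) hp2 hD' subset_rfl).not_nonempty hp2
      (IsConj.refl x : x ∈ conjugatesOf x)

/-- No configuration exists in a finite group. -/
theorem good (hp2 : p ≠ 2) (G : Type u) [Group G] [Finite G] : Good p G :=
  good_aux hp2 _ G rfl

end Cfsg.Agent.PTrans
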