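import Cfsg.Agent.Lib.PTrans.Quad
import Cfsg.Agent.Lib.OddChar.OddTheorem
import Cfsg.Agent.Lib.Involutions.BaerSuzuki
import Cfsg.Agent.Lib.BrauerSuzuki.ZStar
import Cfsg.Prelude.Def_SporadicB

/-!
A generating class of involutions with three orbits of the centraliser consists of 3-transpositions.
-/

set_option autoImplicit false
set_option linter.unusedSectionVars false
set_option linter.style.haveILetI false

namespace Cfsg.Agent.PTrans

universe u

variable {G : Type u} [Group G]

/-- The orbit of `y` under the centraliser of `x`. -/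
def orb (x y : G) : Set G := {w | ∃ g : G, Commute g x ∧ g * y * g⁻¹ = w}

theorem orb_symm {x y w : G} (h : w ∈ orb x y) : y ∈ orb x w := by
  obtain ⟨g, hg, rfl⟩ := h
  exact ⟨g⁻¹, hg.inv_left, by group⟩

theorem orb_trans {x y w v : G} (h : w ∈ orb x y) (h' : v ∈ orb x w) : v ∈ orb x y := by
  obtain ⟨g, hg, rfl⟩ := h
  obtain ⟨k, hk, rfl⟩ := h'
  exact ⟨k * g, hk.mul_left hg, by group⟩

theorem conj_commute_iff (g a b : G) : Commute (g * a * g⁻¹) (g * b * g⁻¹) ↔ Commute a b :=
  Commute.conj_iff g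

/-- Conjugate pairs have conjugate products. -/
theorem orderOf_orb {x y w : G} (h : w ∈ orb x y) : orderOf (x * w) = orderOf (x * y) := by
  obtain ⟨g, hg, rfl⟩ := h
  have : x * (g * y * g⁻¹) = MulAut.conj g (x * y) := by
    rw [MulAut.conj_apply, ← mul_assoc g x y, hg.eq]; group
  rw [this]
  exact MulEquiv.orderOf_eq _ _

theorem commute_orb {x y w : G} (h : w ∈ orb x y) : Commute x w ↔ Commute x y := by
  obtain ⟨g, hg, rfl⟩ := h
  conv_lhs => rw [show x = g * x * g⁻¹ by rw [hg.eq, mul_inv_cancel_right]]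
  exact conj_commute_iff g x y

/-- The hypotheses of the statement. -/
structure Three (D : Set G) : Prop where
  sol : ∀ N : Subgroup G, N.Normal → Group.IsSolvable N → N = ⊥
  inv : ∀ d ∈ D, orderOf d = 2
  cls : ∀ a ∈ D, D = conjugatesOf a
  gen : Subgroup.closure D = ⊤
  three : ∀ x ∈ D, ∃ y z : G, ∀ w ∈ D, w ≠ x → w ∈ orb x y ∨ w ∈ orb x z

variable {D : Set G} (T : Three D)
include T

theorem Three.sq {a : G} (ha : a ∈ D) : a * a = 1 := by
  rw [← pow_two, ← T.inv a ha]; exact pow_orderOf_eq_one a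

theorem Three.conj {a : G} (ha : a ∈ D) (g : G) : g * a * g⁻¹ ∈ D := by
  rw [T.cls a ha]; exact isConj_iff.2 ⟨g, rfl⟩

theorem Three.ne_one {a : G} (ha : a ∈ D) : a ≠ 1 := fun e => by
  have := T.inv a ha
  rw [e, orderOf_one] at this
  exact absurd this (by norm_num)

theorem Three.exists_conj {a b : G} (ha : a ∈ D) (hb : b ∈ D) : ∃ g : G, g * a * g⁻¹ = b := by
  rw [T.cls a ha] at hb
  exact isConj_iff.1 hb

theorem Three.commute_noncommute [Finite G] {a : G} (ha : a ∈ D) : ∃ b ∈ D, ¬ Commute a b := by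
  by_contra hno
  push_neg at hno
  refine T.ne_one ha ?_
  have h1 : a ∈ Subgroup.center G := by
    rw [← Subgroup.centralizer_univ, ← Subgroup.coe_top, ← T.gen, Subgroup.centralizer_closure,
      Subgroup.mem_centralizer_iff]
    exact fun b hb => (hno b hb).symm.eq
  have h2 : Subgroup.center G = ⊥ := by
    refine T.sol _ inferInstance ?_
    letI : CommGroup (Subgroup.center G) :=
      { (inferInstance : Group (Subgroup.center G)) with
        mul_comm := fun y z => Subtype.ext (Subgroup.mem_center_iff.1 z.2 y) }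
    infer_instance
  rwa [h2, Subgroup.mem_bot] at h1

theorem Three.exists_commute [Finite G] {x : G} (hx : x ∈ D) : ∃ y ∈ D, y ≠ x ∧ Commute x y := by
  by_contra hno
  push_neg at hno
  have hiso : IsIsolated x := fun g hg => by
    by_contra hne
    exact hno _ (T.conj hx g) hne hg
  have hz := BrauerSuzuki.zStar G x (T.inv x hx) hiso
  haveI : Fact (Nat.Prime 2) := ⟨Nat.prime_two⟩
  haveI hn : (Cfsg.pPrimeCore 2 G).Normal := Cfsg.Agent.FittingCores.pPrimeCore_normal 2
  have hodd : Odd (Nat.card (Cfsg.pPrimeCore 2 G)) :=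
    Nat.coprime_two_right.1 (Cfsg.Agent.FittingCores.pPrimeCore_coprime (G := G) 2)
  have hO : Cfsg.pPrimeCore 2 G = ⊥ := T.sol _ hn (OddChar.oddSolvable _ hodd)
  obtain ⟨b, hb, hxb⟩ := T.commute_noncommute hx
  obtain ⟨g, hg⟩ := T.exists_conj hx hb
  refine hxb ?_
  have := hz g
  rw [hO, Subgroup.mem_bot, mul_inv_eq_one, hg] at this
  rw [this]

theorem Three.orb_of_commute [Finite G] {x a b : G} (hx : x ∈ D) (ha : a ∈ D) (hb : b ∈ D)
    (hax : a ≠ x) (hbx : b ≠ x) (hiff : Commute x a ↔ Commute x b) : b ∈ orb x a := by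
  obtain ⟨y, z, hyz⟩ := T.three x hx
  obtain ⟨c, hc, hcx, hxc⟩ : ∃ c ∈ D, c ≠ x ∧ ¬ (Commute x c ↔ Commute x a) := by
    by_cases h : Commute x a
    · obtain ⟨c, hc, hn⟩ := T.commute_noncommute hx
      exact ⟨c, hc, fun e => hn (e ▸ Commute.refl x), fun e => hn (e.2 h)⟩
    · obtain ⟨c, hc, hne, hcomm⟩ := T.exists_commute hx
      exact ⟨c, hc, hne, fun e => h (e.1 hcomm)⟩
  have key : ∀ {v}, a ∈ orb x v → c ∈ orb x v → False := fun h1 h2 =>
    hxc (((commute_orb h2).trans (commute_orb h1).symm))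
  have key' : ∀ {v}, b ∈ orb x v → c ∈ orb x v → False := fun h1 h2 =>
    hxc (((commute_orb h2).trans (commute_orb h1).symm).trans hiff.symm)
  rcases hyz a ha hax with h1 | h1 <;> rcases hyz b hb hbx with h2 | h2
  · exact orb_trans (orb_symm h1) h2
  · rcases hyz c hc hcx with h3 | h3
    · exact (key h1 h3).elim
    · exact (key' h2 h3).elim
  · rcases hyz c hc hcx with h3 | h3
    · exact (key' h2 h3).elim
    · exact (key h1 h3).elim
  · exact orb_trans (orb_symm h1) h2

theorem Three.pair_conj [Finite G] {a b a' b' : G} (ha : a ∈ D) (hb : b ∈ D) (ha' : a' ∈ D)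
    (hb' : b' ∈ D) (hne : b ≠ a) (hne' : b' ≠ a') (hiff : Commute a b ↔ Commute a' b') :
    ∃ g : G, g * a * g⁻¹ = a' ∧ g * b * g⁻¹ = b' := by
  obtain ⟨g, rfl⟩ := T.exists_conj ha ha'
  obtain ⟨k, hk, hk'⟩ := T.orb_of_commute ha' (T.conj hb g) hb' (fun e => hne (conj_injective e))
    hne' ((conj_commute_iff g a b).trans hiff)
  refine ⟨k * g, ?_, ?_⟩
  · rw [show k * g * a * (k * g)⁻¹ = k * (g * a * g⁻¹) * k⁻¹ by group, hk.eq, mul_inv_cancel_right]
  · rw [← hk']; group

theorem Three.not_prime [Finite G] {p : ℕ} [Fact p.Prime] (hp2 : p ≠ 2) (hp3 : p ≠ 3)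
    (h : Hyp p D) {d : G} (hd : d ∈ D) : False := by
  -- a configuration transported to a given commuting pair
  have hab : ∃ x u z, x ∈ D ∧ u ∈ D ∧ z ∈ D ∧ x ≠ u ∧ Commute x u ∧ Commute z x ∧ ¬ Commute z u := by
    by_contra hno
    push_neg at hno
    have htrans : ∀ a ∈ D, ∀ b ∈ D, ∀ c ∈ D, Commute a b → Commute b c → Commute a c := by
      intro a ha b hb c hc hab hbc
      by_cases e : b = c
      · exact e ▸ hab
      · exact hno b c a hb hc ha e hbc hab
    obtain ⟨u, hu, hne, hdu⟩ := T.exists_commute hd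
    haveI : Fact (Nat.Prime 2) := ⟨Nat.prime_two⟩
    have hmem := mem_pCore_of_fix_blocks h htrans hd hu hdu fun w hw => by
      by_cases hdw : Commute d w
      · have huw : Commute u w := htrans _ hu _ hd _ hw hdu.symm hdw
        have hc : Commute (d * u) w := hdw.mul_left huw
        rw [hc.eq, mul_assoc, hdu.symm.mul_mul_mul_comm, T.sq hd, T.sq hu, one_mul, mul_one]
      · exact good_commute hp2 h hd hu hw hne.symm hdu hdw
          fun e => hdw (htrans _ hd _ hu _ hw hdu e)
    haveI := FiniteGroup.pCore_isPGroup (G := G) 2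
    haveI := (FiniteGroup.pCore_isPGroup (G := G) 2).isNilpotent
    rw [T.sol (Cfsg.pCore 2 G) (FiniteGroup.pCore_normal 2) inferInstance, Subgroup.mem_bot] at hmem
    rw [eq_inv_of_mul_eq_one_left hmem, h.inv_eq hu] at hne
    exact hne rfl
  obtain ⟨x, u, z, hx, hu, hz, hne, hxu, hzx, hzu⟩ := hab
  by_cases hBB : ∃ x' u' w, x' ∈ D ∧ u' ∈ D ∧ w ∈ D ∧ x' ≠ u' ∧ Commute x' u' ∧ ¬ Commute x' w ∧
      ¬ Commute u' w
  · obtain ⟨x', u', w, hx', hu', hw, hne', hxu', hxw, huw⟩ := hBB
    obtain ⟨g, rfl, rfl⟩ := T.pair_conj hx' hu' hx hu hne'.symm hne.symm (iff_of_true hxu' hxu)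
    exact no_ab hp2 hp3 h hx hu (T.conj hw g) hz hne hxu (mt (conj_commute_iff g x' w).1 hxw)
      (mt (conj_commute_iff g u' w).1 huw) hzx hzu
  · push_neg at hBB
    set S : Set G := {y | y ∈ D ∧ (y = x ∨ ¬ Commute x y)} with hS
    have hSd : ∀ e ∈ D, ∀ y ∈ S, e * y * e ∈ S := by
      intro e he y hy
      refine ⟨h.conj_sq he hy.1, ?_⟩
      by_cases hex : Commute x e
      · have hexe : e * x * e = x := by rw [← hex.eq, mul_assoc, h.sq e he, mul_one]
        refine hy.2.imp (fun e' => by rw [e', hexe]) fun hn hc => hn ?_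
        have := (conj_commute_iff e x (e * y * e)).2 hc
        rwa [h.inv_eq he, hexe, show e * (e * y * e) * e = e * e * y * (e * e) by group, h.sq e he,
          one_mul, mul_one] at this
      · by_cases hyx : y = x
        · subst hyx
          refine Or.inr fun hc => hex ?_
          by_contra hn
          exact h.swap_not_commute hp2 he hx (fun e' => hn e'.symm) hc.symm
        · by_contra hno
          push_neg at hno
          obtain ⟨hne1, hc⟩ := hno
          have h1 : Commute (e * y * e) e :=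
            hBB x (e * y * e) e hx (h.conj_sq he hy.1) he hne1.symm hc hex
          refine (hy.2.resolve_left hyx) ?_
          have h2 : e * y * e = y := by
            calc e * y * e = (e * e) * (e * y * e) := by rw [h.sq e he, one_mul]
              _ = e * (e * (e * y * e)) := by group
              _ = e * ((e * y * e) * e) := by rw [h1.eq]
              _ = e * e * y * (e * e) := by group
              _ = y := by rw [h.sq e he, one_mul, mul_one]
          rwa [h2] at hc
    have hall : ∀ g : G, ∀ y ∈ S, g * y * g⁻¹ ∈ S := by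
      intro g
      have hg : g ∈ Subgroup.closure D := T.gen ▸ Subgroup.mem_top g
      induction hg using Subgroup.closure_induction'' with
      | mem e he => intro y hy; rw [h.inv_eq he]; exact hSd e he y hy
      | inv_mem e he => intro y hy; rw [h.inv_eq he, h.inv_eq he]; exact hSd e he y hy
      | one => intro y hy; simpa using hy
      | mul k l _ _ hk hl =>
        intro y hy
        rw [show k * l * y * (k * l)⁻¹ = k * (l * y * l⁻¹) * k⁻¹ by group]
        exact hk _ (hl _ hy)
    obtain ⟨g, hg⟩ := T.exists_conj hx hu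
    rcases (hg ▸ hall g x ⟨hx, Or.inl rfl⟩ : u ∈ S).2 with e | e
    · exact hne e.symm
    · exact e hxu

theorem Three.three_trans [Finite G] : ∀ a ∈ D, ∀ b ∈ D, (a * b) ^ 2 = 1 ∨ (a * b) ^ 3 = 1 := by
  intro a ha b hb
  by_cases hab : Commute a b
  · left; rw [hab.mul_pow, pow_two, pow_two, T.sq ha, T.sq hb, one_mul]
  right
  have hai : a⁻¹ = a := inv_eq_of_mul_eq_one_right (T.sq ha)
  have hbi : b⁻¹ = b := inv_eq_of_mul_eq_one_right (T.sq hb)
  set m := orderOf (a * b) with hm
  have hord : ∀ c ∈ D, ∀ e ∈ D, ¬ Commute c e → orderOf (c * e) = m := by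
    intro c hc e he hce
    obtain ⟨g, rfl, rfl⟩ := T.pair_conj ha hb hc he (fun e' => hab (e' ▸ Commute.refl b))
      (fun e' => hce (e' ▸ Commute.refl _)) (iff_of_false hab hce)
    rw [show g * a * g⁻¹ * (g * b * g⁻¹) = MulAut.conj g (a * b) by
      rw [MulAut.conj_apply]; group, MulEquiv.orderOf_eq]
  -- products of `a` with conjugates along the dihedral group
  have heven : ∀ j : ℕ, orderOf ((a * b) ^ (2 * j)) ∣ 2 ∨ orderOf ((a * b) ^ (2 * j)) = m := by
    intro j
    have h1 : a * (a * b) ^ (2 * j) ∈ D := by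
      have h2 : a * (a * b) ^ j * a = ((a * b) ^ j)⁻¹ := by
        have := conj_pow (i := j) (a := a) (b := a * b)
        rw [hai, show a * (a * b) * a = (a * b)⁻¹ by
          rw [mul_inv_rev, hai, hbi, ← mul_assoc a a b, T.sq ha, one_mul], inv_pow] at this
        exact this.symm
      have h3 := T.conj ha ((a * b) ^ j)⁻¹
      rwa [inv_inv, ← h2, mul_assoc (a * (a * b) ^ j) a a, T.sq ha, mul_one, mul_assoc, ← pow_add,
        ← two_mul] at h3
    have h4 : a * (a * (a * b) ^ (2 * j)) = (a * b) ^ (2 * j) := by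
      rw [← mul_assoc, T.sq ha, one_mul]
    rw [← h4]
    by_cases hc : Commute a (a * (a * b) ^ (2 * j))
    · left
      apply orderOf_dvd_of_pow_eq_one
      rw [hc.mul_pow, pow_two, pow_two, T.sq ha, T.sq h1, one_mul]
    · exact Or.inr (hord a ha _ h1 hc)
  have hm0 : 0 < m := orderOf_pos _
  have hm1 : m ≠ 1 := fun e => by
    rw [hm, orderOf_eq_one_iff] at e
    exact hab (eq_inv_of_mul_eq_one_left e ▸ (Commute.refl b).inv_left)
  have hm2 : m ≠ 2 := fun e => by
    refine hab ?_
    have h1 : a * b * (a * b) = 1 := by rw [← pow_two, ← e, hm]; exact pow_orderOf_eq_one _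
    have h2 := inv_eq_of_mul_eq_one_right h1
    rw [mul_inv_rev, hai, hbi] at h2
    exact h2.symm
  by_cases hev : Even m
  · -- order four
    obtain ⟨k, hk⟩ := hev
    have hk' : m = 2 * k := by omega
    have hm4 : m = 4 := by
      have h1 : orderOf ((a * b) ^ (2 * 1)) = k := by
        rw [orderOf_pow' _ (by norm_num), ← hm, hk', mul_one, Nat.gcd_mul_right_left]
        omega
      rcases heven 1 with h2 | h2
      · rw [h1] at h2
        rcases (Nat.dvd_prime Nat.prime_two).1 h2 with e | e <;> omega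
      · rw [h1] at h2; omega
    exfalso
    haveI : Fact (Nat.Prime 2) := ⟨Nat.prime_two⟩
    have h4 : ∀ c ∈ D, ∀ e ∈ D, (c * e) ^ 4 = 1 := by
      intro c hc e he
      by_cases hce : Commute c e
      · rw [show (4 : ℕ) = 2 * 2 from rfl, pow_mul, hce.mul_pow, pow_two c, pow_two e, T.sq hc, T.sq he,
          one_mul, one_pow]
      · rw [← hm4, ← hord c hc e he hce]; exact pow_orderOf_eq_one _
    obtain ⟨N, hN, hN2, hle⟩ := BaerSuzuki.baerSuzuki (p := 2) (Subgroup.zpowers a)
      (IsPGroup.of_card (n := 1) (by rw [Nat.card_zpowers, T.inv a ha, pow_one])) fun g => by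
        set c := g * a * g⁻¹ with hc
        have hcD : c ∈ D := T.conj ha g
        rw [show (Subgroup.zpowers a).map (MulAut.conj g).toMonoidHom = Subgroup.zpowers c from
          MonoidHom.map_zpowers _ _]
        intro ⟨y, hy⟩
        refine ⟨2, Subtype.ext ?_⟩
        show y ^ 2 ^ 2 = 1
        set r := a * c with hr
        have hra : ∀ i : ℤ, a * r ^ i = r ^ (-i) * a := fun i => by
          have := conj_zpow (i := i) (a := a) (b := r)
          rw [show a * r * a⁻¹ = r⁻¹ by
            rw [hr, mul_inv_rev, hai, inv_eq_of_mul_eq_one_right (T.sq hcD), ← mul_assoc a a c,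
              T.sq ha, one_mul], inv_zpow', hai] at this
          rw [this, mul_assoc, T.sq ha, mul_one]
        let K : Subgroup G :=
          { carrier := {k | ∃ i : ℤ, k = r ^ i ∨ k = r ^ i * a}
            one_mem' := ⟨0, Or.inl (zpow_zero r).symm⟩
            mul_mem' := by
              rintro k l ⟨i, rfl | rfl⟩ ⟨j, rfl | rfl⟩
              · exact ⟨i + j, Or.inl (zpow_add r i j).symm⟩
              · exact ⟨i + j, Or.inr (by rw [zpow_add, mul_assoc])⟩
              · exact ⟨i + -j, Or.inr (by rw [mul_assoc, hra, zpow_add, mul_assoc])⟩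
              · refine ⟨i + -j, Or.inl ?_⟩
                rw [mul_assoc, ← mul_assoc a, hra, mul_assoc, T.sq ha, mul_one, zpow_add]
            inv_mem' := by
              rintro k ⟨i, rfl | rfl⟩
              · exact ⟨-i, Or.inl (zpow_neg r i).symm⟩
              · refine ⟨i, Or.inr ?_⟩
                rw [mul_inv_rev, hai, ← zpow_neg, hra, neg_neg] }
        have hyK : y ∈ K := by
          have h1 : a ∈ K := ⟨0, Or.inr (by simp)⟩
          have h2 : c ∈ K := by
            refine ⟨-1, Or.inr ?_⟩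
            rw [zpow_neg_one, hr, mul_inv_rev, hai, inv_eq_of_mul_eq_one_right (T.sq hcD), mul_assoc,
              T.sq ha, mul_one]
          exact sup_le (Subgroup.zpowers_le.2 h1) (Subgroup.zpowers_le.2 h2) hy
        obtain ⟨i, rfl | rfl⟩ := hyK
        · rw [show (2 : ℕ) ^ 2 = 4 from rfl, ← zpow_natCast, ← zpow_mul, mul_comm, zpow_mul,
            zpow_natCast, h4 a ha c hcD, one_zpow]
        · have h2 : (r ^ i * a) ^ 2 = 1 := by
            rw [pow_two, mul_assoc, ← mul_assoc a, hra, mul_assoc, T.sq ha, mul_one, ← zpow_add,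
              add_neg_cancel, zpow_zero]
          rw [show (2 : ℕ) ^ 2 = 2 * 2 from rfl, pow_mul, h2, one_pow]
    haveI := hN2.isNilpotent
    rw [T.sol N hN inferInstance, Subgroup.zpowers_le, Subgroup.mem_bot] at hle
    exact T.ne_one ha hle
  · -- odd order
    obtain ⟨k, hk⟩ := Nat.not_even_iff_odd.1 hev
    have hprime : m.Prime := by
      have hq : (Nat.minFac m).Prime := Nat.minFac_prime hm1
      have hqm := Nat.minFac_dvd m
      obtain ⟨l, hl⟩ := hqm
      set q := Nat.minFac m
      have h1 : (a * b) ^ (2 * (q * (k + 1))) = (a * b) ^ q := by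
        rw [show 2 * (q * (k + 1)) = m * q + q by rw [hk]; ring, pow_add, pow_mul, hm,
          pow_orderOf_eq_one, one_pow, one_mul]
      have h2 : orderOf ((a * b) ^ q) = l := by
        rw [orderOf_pow' _ hq.ne_zero, ← hm, hl, Nat.gcd_mul_right_left, Nat.mul_div_cancel_left _ hq.pos]
      have h3 := heven (q * (k + 1))
      rw [h1, h2] at h3
      have hl0 : 0 < l := Nat.pos_of_ne_zero fun e => by rw [e, mul_zero] at hl; omega
      rcases h3 with h3 | h3
      · rcases (Nat.dvd_prime Nat.prime_two).1 h3 with e | e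
        · rw [e, mul_one] at hl; rwa [hl]
        · rw [e] at hl; omega
      · exfalso
        have : l * 1 < l * q := Nat.mul_lt_mul_of_pos_left hq.one_lt hl0
        rw [mul_one, mul_comm, ← hl, h3] at this
        exact lt_irrefl _ this
    haveI : Fact m.Prime := ⟨hprime⟩
    have h : Hyp m D := ⟨fun c hc => T.sq hc, fun c hc => T.conj hc, hord⟩
    by_cases hm3 : m = 3
    · rw [← hm3, hm]; exact pow_orderOf_eq_one _
    · exact (T.not_prime hm2 hm3 h ha).elim

omit T in
theorem isThreeTranspositionClass [Finite G]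
    (hsol : ∀ N : Subgroup G, N.Normal → Group.IsSolvable N → N = ⊥) {D : Set G}
    (hinv : ∀ d ∈ D, orderOf d = 2) (hconj : ∃ d ∈ D, D = conjugatesOf d)
    (hgen : Subgroup.closure D = ⊤)
    (hrank : ∀ x ∈ D, ∃ y z : G, D = orb x x ∪ orb x y ∪ orb x z) :
    Cfsg.IsThreeTranspositionClass D := by
  obtain ⟨d, hd, hD⟩ := hconj
  have T : Three D := by
    refine ⟨hsol, hinv, fun a ha => ?_, hgen, fun x hx => ?_⟩
    · rw [hD] at ha ⊢
      exact IsConj.conjugatesOf_eq ha
    · obtain ⟨y, z, hyz⟩ := hrank x hx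
      refine ⟨y, z, fun w hw hwx => ?_⟩
      rw [hyz] at hw
      rcases hw with (⟨g, hg, rfl⟩ | hw) | hw
      · exact absurd (by rw [hg.eq, mul_inv_cancel_right]) hwx
      · exact Or.inl hw
      · exact Or.inr hw
  exact ⟨⟨hinv, T.three_trans⟩, ⟨d, hd, hD⟩, hgen⟩

end Cfsg.Agent.PTrans
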