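import Cfsg.Agent.Lib.PTrans.Basic

/-!
A smallest configuration: commuting is an equivalence relation and blocks are closed under products.
-/

set_option autoImplicit false
set_option linter.unusedSectionVars false
set_option linter.style.haveILetI false

namespace Cfsg.Agent.PTrans

universe u

variable {G : Type u} [Group G]

/-- Commuting `x`, `u` and a point `w` not fixed up to commutation by `x * u`. -/
structure Cx (D : Set G) (x u w : G) : Prop where
  hx : x ∈ D
  hu : u ∈ D
  hw : w ∈ D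
  hne : x ≠ u
  hxu : Commute x u
  hxw : ¬ Commute x w
  huw : ¬ Commute u w
  bad : ¬ Commute (x * u * w * (x * u)) w

/-- No configuration in any invariant set. -/
def Good (p : ℕ) (K : Type u) [Group K] : Prop :=
  ∀ D : Set K, Hyp p D → ∀ x u w : K, ¬ Cx D x u w

/-- Blocks of commuting elements, closed under products, with rigid configurations. -/
structure Blocks (p : ℕ) (D : Set G) : Prop where
  hyp : Hyp p D
  trans : ∀ a ∈ D, ∀ b ∈ D, ∀ c ∈ D, Commute a b → Commute b c → Commute a c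
  prod : ∀ a ∈ D, ∀ c ∈ D, a ≠ c → Commute a c → a * c ∈ D
  ne_one : ∀ a ∈ D, a ≠ 1
  pair : ∀ a ∈ D, ∃ c ∈ D, c ≠ a ∧ Commute a c
  partner : ∀ a ∈ D, ∃ w ∈ D, ¬ Commute a w
  rigid : ∀ g, ∀ a ∈ D, ∀ c ∈ D, ∀ w ∈ D, a ≠ c → Commute a c → ¬ Commute a w →
    Commute g a → Commute g c → Commute g w → g = 1

variable {p : ℕ} [hp : Fact p.Prime] {D : Set G} {x u w : G}

theorem Cx.sandwich (h : Hyp p D) (c : Cx D x u w) {a : G} (ha : a ∈ D) :
    x * u * a * (x * u) ∈ D := by
  have := h.conj_sq c.hx (h.conj_sq c.hu ha)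
  rwa [show x * (u * a * u) * x = x * u * a * (u * x) by group, ← c.hxu.eq] at this

/-- The midpoint of `w` and its image. -/
theorem Cx.mid (hp2 : p ≠ 2) (h : Hyp p D) (c : Cx D x u w) :
    ∃ r ∈ D, r ∈ Subgroup.closure {x, u, w} ∧ Commute r x ∧ Commute r u ∧ Commute (x * u * r) w := by
  set t := x * u with ht
  have ht2 : t * t = 1 := by
    rw [ht, show x * u * (x * u) = x * (u * x) * u by group, ← c.hxu.eq, ← mul_assoc x x u,
      h.sq x c.hx, one_mul, h.sq u c.hu]
  set d := t * w * t with hd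
  have hdD : d ∈ D := c.sandwich h c.hw
  have hdw : ¬ Commute w d := fun e => c.bad e.symm
  obtain ⟨r, hrD, hrK, hr, hrw⟩ := h.exists_swap hp2 c.hw hdD hdw
  have hrK' : r ∈ Subgroup.closure ({x, u, w} : Set G) := by
    have hx' : x ∈ Subgroup.closure ({x, u, w} : Set G) := Subgroup.subset_closure (by simp)
    have hu' : u ∈ Subgroup.closure ({x, u, w} : Set G) := Subgroup.subset_closure (by simp)
    have hw' : w ∈ Subgroup.closure ({x, u, w} : Set G) := Subgroup.subset_closure (by simp)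
    refine (Subgroup.closure_le _).2 ?_ hrK
    rintro y (rfl | rfl)
    · exact hw'
    · exact mul_mem (mul_mem (mul_mem hx' hu') hw') (mul_mem hx' hu')
  have hr' : r * d * r = w := by
    rw [← hr, show r * (r * w * r) * r = r * r * w * (r * r) by group, h.sq r hrD, one_mul, mul_one]
  have hs : t * r * t * w * (t * r * t) = d := by
    calc t * r * t * w * (t * r * t) = t * (r * (t * w * t) * r) * t := by group
      _ = t * w * t := by rw [← hd, hr']
      _ = d := hd.symm
  have hsD : t * r * t ∈ D := c.sandwich h hrD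
  have htr : t * r * t = r := by
    refine h.swap_unique hp2 hsD hrD c.hw (fun e => hdw ?_) hrw (hs.trans hr.symm)
    rw [e.eq, mul_assoc w, h.sq _ hsD, mul_one] at hs
    rw [← hs]
  have hrt : Commute r t := by
    calc r * t = t * r * t * t := by rw [htr]
      _ = t * r := by rw [mul_assoc, ht2, mul_one]
  have hu_eq : x * t = u := by rw [ht, ← mul_assoc, h.sq x c.hx, one_mul]
  have hrx : Commute r x := by
    by_contra hn
    have hru : ¬ Commute r u := fun e => hn (by
      have := hrt.mul_right e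
      rwa [ht, mul_assoc, h.sq u c.hu, mul_one] at this)
    refine c.hne (h.swap_unique hp2 c.hx c.hu hrD (fun e => hn e.symm) (fun e => hru e.symm) ?_)
    calc x * r * x = x * (t * r * t) * x := by rw [htr]
      _ = x * (x * u * r * (u * x)) * x := by rw [ht, mul_assoc, c.hxu.eq]; group
      _ = x * x * u * r * u * (x * x) := by group
      _ = u * r * u := by rw [h.sq x c.hx, one_mul, mul_one]
  refine ⟨r, hrD, hrK', hrx, hu_eq ▸ hrx.mul_right hrt, ?_⟩
  have he : t * r * w * (r * t) = w := by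
    rw [show t * r * w * (r * t) = t * (r * w * r) * t by group, hr, hd,
      show t * (t * w * t) * t = t * t * w * (t * t) by group, ht2, one_mul, mul_one]
  calc t * r * w = t * r * w * (r * (t * t) * r) := by rw [ht2, mul_one, h.sq r hrD, mul_one]
    _ = t * r * w * (r * t) * (t * r) := by group
    _ = w * (t * r) := by rw [he]

variable [Finite G]
  (ih : ∀ (K : Type u) [Group K] [Finite K], Nat.card K < Nat.card G → Good p K)
include ih

theorem Cx.closure_eq_top (h : Hyp p D) (c : Cx D x u w) : Subgroup.closure {x, u, w} = ⊤ := by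
  by_contra hne
  set K := Subgroup.closure ({x, u, w} : Set G) with hK
  refine ih K (lt_of_le_of_ne (Subgroup.card_le_card_group K) fun e => hne (Subgroup.eq_top_of_card_eq _ e))
    _ (h.subgroup K) ⟨x, Subgroup.subset_closure (by simp)⟩ ⟨u, Subgroup.subset_closure (by simp)⟩
    ⟨w, Subgroup.subset_closure (by simp)⟩ ⟨c.hx, c.hu, c.hw, fun e => c.hne (congrArg Subtype.val e),
      Subtype.ext c.hxu.eq, fun e => c.hxw (congrArg Subtype.val e.eq),
      fun e => c.huw (congrArg Subtype.val e.eq), fun e => c.bad (congrArg Subtype.val e.eq)⟩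

theorem Cx.normal_eq_bot (h : Hyp p D) (c : Cx D x u w) (N : Subgroup G) [N.Normal]
    (hN : ∀ a ∈ D, ∀ b ∈ D, ¬ Commute a b → a * b * (a * b) ∉ N) : N = ⊥ := by
  by_contra hne
  have hcard : Nat.card (G ⧸ N) < Nat.card G := by
    have h1 := N.card_eq_card_quotient_mul_card_subgroup
    have h2 : 1 < Nat.card N := Nat.lt_of_le_of_ne Nat.card_pos fun e => hne (N.eq_bot_of_card_eq e.symm)
    rw [h1]
    exact (Nat.lt_mul_iff_one_lt_right Nat.card_pos).2 h2
  set q := QuotientGroup.mk' N
  have himg : ∀ a ∈ D, ∀ b ∈ D, Commute (q a) (q b) → Commute a b := by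
    intro a ha b hb e
    by_contra hn
    refine hN a ha b hb hn ((QuotientGroup.eq_one_iff _).1 ?_)
    show q (a * b * (a * b)) = 1
    rw [map_mul, map_mul, show q a * q b * (q a * q b) = q a * (q b * q a) * q b by group, ← e.eq,
      show q a * (q a * q b) * q b = q a * q a * (q b * q b) by group, ← map_mul, ← map_mul,
      h.sq a ha, h.sq b hb, map_one, one_mul]
  have hbad : ¬ Commute (q (x * u * w * (x * u))) (q w) := fun e =>
    c.bad (himg _ (c.sandwich h c.hw) _ c.hw e)
  refine ih (G ⧸ N) hcard _ (h.quotient N) (q x) (q u) (q w) ⟨⟨x, c.hx, rfl⟩, ⟨u, c.hu, rfl⟩,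
    ⟨w, c.hw, rfl⟩, fun e => hbad ?_, c.hxu.map q, fun e => c.hxw (himg _ c.hx _ c.hw e),
    fun e => c.huw (himg _ c.hu _ c.hw e), fun e => hbad (by simpa only [map_mul] using e)⟩
  have h1 : q (x * u) = 1 := by rw [map_mul, e, ← map_mul, h.sq u c.hu, map_one]
  rw [map_mul _ _ (x * u), map_mul _ (x * u) w, h1, one_mul, mul_one]

theorem Cx.pCore_eq_bot (hp2 : p ≠ 2) (h : Hyp p D) (c : Cx D x u w) : Cfsg.pCore 2 G = ⊥ := by
  haveI : Fact (Nat.Prime 2) := ⟨Nat.prime_two⟩
  haveI : (Cfsg.pCore 2 G).Normal := FiniteGroup.pCore_normal 2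
  refine c.normal_eq_bot ih h _ fun a ha b hb hab hm => h.not_sq hp2 ha hb hab ?_
  obtain ⟨k, hk⟩ := (FiniteGroup.pCore_isPGroup 2) ⟨_, hm⟩
  have h1 : orderOf (a * b * (a * b)) ∣ 2 ^ k := orderOf_dvd_of_pow_eq_one (congrArg Subtype.val hk)
  have h2 : orderOf (a * b * (a * b)) ∣ p :=
    orderOf_dvd_of_pow_eq_one (by rw [← pow_two, ← pow_mul, mul_comm, pow_mul, h.mul_pow_p ha hb hab, one_pow])
  exact orderOf_eq_one_iff.1 (Nat.eq_one_of_dvd_coprimes
    (((Nat.coprime_primes Nat.prime_two hp.out).2 (Ne.symm hp2)).pow_left k) h1 h2)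

theorem Cx.center_eq_bot (hp2 : p ≠ 2) (h : Hyp p D) (c : Cx D x u w) : Subgroup.center G = ⊥ := by
  refine c.normal_eq_bot ih h _ fun a ha b hb hab hm => hab ?_
  have h1 : a * b ∈ Subgroup.center G := by
    rw [← half_root hp2 (h.mul_pow_p ha hb hab)]
    exact pow_mem hm _
  have h2 : Commute a (a * b) := Subgroup.mem_center_iff.1 h1 a
  have h3 := (Commute.refl a).mul_right h2
  rwa [← mul_assoc, h.sq a ha, one_mul] at h3

theorem Cx.eq_one (hp2 : p ≠ 2) (h : Hyp p D) (c : Cx D x u w) {g : G} (h1 : Commute g x)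
    (h2 : Commute g u) (h3 : Commute g w) : g = 1 := by
  have hg : g ∈ Subgroup.center G := by
    rw [← Subgroup.centralizer_univ, ← Subgroup.coe_top, ← c.closure_eq_top ih h,
      Subgroup.centralizer_closure, Subgroup.mem_centralizer_iff]
    rintro y (rfl | rfl | rfl) <;> [exact h1.symm.eq; exact h2.symm.eq; exact h3.symm.eq]
  rwa [c.center_eq_bot ih hp2 h, Subgroup.mem_bot] at hg

theorem Cx.prod_mem (hp2 : p ≠ 2) (h : Hyp p D) (c : Cx D x u w) : x * u ∈ D := by
  obtain ⟨r, hrD, -, hrx, hru, hrw⟩ := c.mid hp2 h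
  have he := c.eq_one ih hp2 h (g := x * u * r)
    (((Commute.refl x).mul_left c.hxu.symm).mul_left hrx)
    ((c.hxu.mul_left (Commute.refl u)).mul_left hru) hrw
  rw [eq_inv_of_mul_eq_one_left he, h.inv_eq hrD]
  exact hrD

omit ih in
theorem commute_third (hp2 : p ≠ 2) (h : Hyp p D) {a c s : G} (ha : a ∈ D) (hc : c ∈ D)
    (hac : a * c ∈ D) (hcomm : Commute a c) (ha1 : a ≠ 1) (hs : s ∈ D) (hsa : Commute s a) :
    Commute s c := by
  by_contra hn
  have hn' : ¬ Commute s (a * c) := fun e => hn (by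
    have := hsa.mul_right e
    rwa [← mul_assoc, h.sq a ha, one_mul] at this)
  have := h.swap_unique hp2 hac hc hs (fun e => hn' e.symm) (fun e => hn e.symm) (by
    calc a * c * s * (a * c) = c * a * s * (a * c) := by rw [hcomm.eq]
      _ = c * (a * s) * a * c := by group
      _ = c * (s * a) * a * c := by rw [hsa.eq]
      _ = c * s * (a * a) * c := by group
      _ = c * s * c := by rw [h.sq a ha, mul_one])
  exact ha1 (mul_eq_right.1 this)

theorem Cx.blocks (hp2 : p ≠ 2) (h : Hyp p D) (c : Cx D x u w) (hD : D ⊆ conjugatesOf x) :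
    Blocks p D := by
  have hx1 : x ≠ 1 := fun e => c.hxw (e ▸ Commute.one_left w)
  have hconj : ∀ a ∈ D, ∃ g : G, g * x * g⁻¹ = a := fun a ha => isConj_iff.1 (hD ha)
  have hne1 : ∀ a ∈ D, a ≠ 1 := by
    rintro a ha rfl
    obtain ⟨g, hg⟩ := hconj 1 ha
    exact hx1 (by simpa [mul_inv_eq_one] using hg)
  have triple : ∀ a ∈ D, ∃ b ∈ D, b ≠ a ∧ Commute a b ∧ a * b ∈ D := by
    intro a ha
    obtain ⟨g, rfl⟩ := hconj a ha
    refine ⟨g * u * g⁻¹, h.conj u c.hu g, fun e => c.hne ?_, ?_, ?_⟩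
    · simpa using e.symm
    · exact (c.hxu.map (MulAut.conj g).toMonoidHom)
    · rw [show g * x * g⁻¹ * (g * u * g⁻¹) = g * (x * u) * g⁻¹ by group]
      exact h.conj _ (c.prod_mem ih hp2 h) g
  have htrans : ∀ a ∈ D, ∀ b ∈ D, ∀ d ∈ D, Commute a b → Commute b d → Commute a d := by
    intro a ha b hb d hd hab hbd
    by_contra had
    obtain ⟨a', ha', hne, hcomm, hprod⟩ := triple a ha
    have hba' : Commute b a' := commute_third hp2 h ha ha' hprod hcomm (hne1 a ha) hb hab.symm
    have hda' : ¬ Commute d a' := fun e =>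
      had (commute_third hp2 h ha' ha (hcomm.eq ▸ hprod) hcomm.symm (hne1 a' ha') hd e).symm
    have haa' : a * a' * a = a' := by rw [hcomm.eq, mul_assoc, h.sq a ha, mul_one]
    have hdr : ¬ Commute d (a * a') := fun e =>
      had (commute_third hp2 h hprod ha (by rw [haa']; exact ha')
        ((Commute.refl a).mul_left hcomm.symm) (hne1 _ hprod) hd e).symm
    have c' : Cx D a a' d := ⟨ha, ha', hd, hne.symm, hcomm, had, fun e => hda' e.symm,
      h.swap_not_commute hp2 hprod hd fun e => hdr e.symm⟩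
    exact hne1 b hb (c'.eq_one ih hp2 h hab.symm hba' hbd)
  have hprod : ∀ a ∈ D, ∀ b ∈ D, a ≠ b → Commute a b → a * b ∈ D := by
    intro a ha b hb hab hcomm
    by_contra hn
    refine hab ?_
    have hmem : a * b ∈ Cfsg.pCore 2 G := mem_pCore_of_fix_blocks h htrans ha hb hcomm fun d hd => by
      by_cases had : Commute a d
      · have hbd : Commute b d := htrans _ hb _ ha _ hd hcomm.symm had
        have : Commute (a * b) d := had.mul_left hbd
        rw [this.eq, mul_assoc, show a * b * (a * b) = a * (b * a) * b by group, ← hcomm.eq,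
          ← mul_assoc a a b, h.sq a ha, one_mul, h.sq b hb, mul_one]
      · by_contra hbad
        exact hn (Cx.prod_mem ih hp2 h ⟨ha, hb, hd, hab, hcomm, had,
          fun e => had (htrans _ ha _ hb _ hd hcomm e), hbad⟩)
    rw [c.pCore_eq_bot ih hp2 h, Subgroup.mem_bot] at hmem
    rw [eq_inv_of_mul_eq_one_left hmem, h.inv_eq hb]
  refine ⟨h, htrans, hprod, hne1, fun a ha => ?_, fun a ha => ?_, ?_⟩
  · obtain ⟨b, hb, hne, hcomm, -⟩ := triple a ha
    exact ⟨b, hb, hne, hcomm⟩
  · obtain ⟨g, rfl⟩ := hconj a ha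
    refine ⟨g * w * g⁻¹, h.conj w c.hw g, fun e => c.hxw ?_⟩
    have := e.map (MulAut.conj g⁻¹).toMonoidHom
    simpa [mul_assoc] using this
  · intro g a ha b hb d hd hab hcomm had h1 h2 h3
    have hbd : ¬ Commute b d := fun e => had (htrans _ ha _ hb _ hd hcomm e)
    have hrd : ¬ Commute (a * b) d := fun e => had
      (htrans _ ha _ (hprod a ha b hb hab hcomm) _ hd ((Commute.refl a).mul_right hcomm) e)
    exact Cx.eq_one ih hp2 h (⟨ha, hb, hd, hab, hcomm, had, hbd,
      h.swap_not_commute hp2 (hprod a ha b hb hab hcomm) hd hrd⟩ : Cx D a b d) h1 h2 h3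

end Cfsg.Agent.PTrans
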