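import Cfsg.Agent.Lib.PTrans.Final

/-!
A class of involutions with one product order for commuting and one odd prime at least five for
non-commuting pairs has no commuting pair.
-/

set_option autoImplicit false
set_option linter.unusedSectionVars false
set_option linter.style.haveILetI false

namespace Cfsg.Agent.PTrans

universe u

variable {G : Type u} [Group G] [Finite G] {p : ℕ} [hp : Fact p.Prime] {D : Set G}

theorem good_commute (hp2 : p ≠ 2) (h : Hyp p D) {x u w : G} (hx : x ∈ D) (hu : u ∈ D) (hw : w ∈ D)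
    (hne : x ≠ u) (hxu : Commute x u) (hxw : ¬ Commute x w) (huw : ¬ Commute u w) :
    Commute (x * u * w * (x * u)) w := by
  by_contra hbad
  exact good hp2 G D h x u w ⟨hx, hu, hw, hne, hxu, hxw, huw, hbad⟩

/-- A `BB` point together with an `AB` point is impossible. -/
theorem no_ab (hp2 : p ≠ 2) (hp3 : p ≠ 3) (h : Hyp p D) {x u w z : G} (hx : x ∈ D) (hu : u ∈ D)
    (hw : w ∈ D) (hz : z ∈ D) (hne : x ≠ u) (hxu : Commute x u) (hxw : ¬ Commute x w)
    (huw : ¬ Commute u w) (hzx : Commute z x) (hzu : ¬ Commute z u) : False := by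
  have hx2 := h.sq x hx
  have hu2 := h.sq u hu
  have hxi := h.inv_eq hx
  set t := x * u with ht
  have ht2 : t * t = 1 := by
    rw [ht, hxu.symm.mul_mul_mul_comm, hx2, hu2, one_mul]
  have htx : Commute t x := (Commute.refl x).mul_left hxu.symm
  have hxt : x * t = u := by rw [ht, ← mul_assoc, hx2, one_mul]
  set g := x * w with hg
  have hgp : g ^ p = 1 := h.mul_pow_p hx hw hxw
  have hgo : orderOf g = p := h.ord x hx w hw hxw
  have hg1 : g ≠ 1 := h.mul_ne_one hx hw hxw
  have hxg : x * g * x = g⁻¹ := by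
    rw [hg, mul_inv_rev, hxi, h.inv_eq hw, ← mul_assoc x x w, hx2, one_mul]
  have hxgi : ∀ i : ℤ, x * g ^ i * x = g ^ (-i) := fun i => by
    have := conj_zpow (i := i) (a := x) (b := g)
    rw [hxi, hxg, inv_zpow'] at this
    exact this.symm
  have hgen : ∀ i : ℤ, ¬ (p : ℤ) ∣ i → ∃ k : ℤ, g = (g ^ i) ^ k := by
    intro i hi
    have h1 : g ^ i ≠ 1 := fun e => hi (hgo ▸ orderOf_dvd_iff_zpow_eq_one.2 e)
    obtain ⟨k, hk⟩ : g ∈ Subgroup.zpowers (g ^ i) := by
      rw [zpowers_eq hgo ⟨i, rfl⟩ h1]
      exact Subgroup.mem_zpowers g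
    exact ⟨k, hk.symm⟩
  have htg : ¬ Commute t g := by
    intro e
    have e2 : Commute t w := by
      have := htx.mul_right e
      rwa [hg, ← mul_assoc, hx2, one_mul] at this
    refine hne (h.swap_unique hp2 hx hu hw hxw huw ?_)
    calc x * w * x = x * (t * w * t) * x := by rw [e2.eq, mul_assoc w t t, ht2, mul_one]
      _ = (x * t) * w * (t * x) := by group
      _ = u * w * u := by rw [hxt, htx.eq, hxt]
  have htgi : ∀ i : ℤ, ¬ (p : ℤ) ∣ i → ¬ Commute t (g ^ i) := fun i hi e => htg (by
    obtain ⟨k, hk⟩ := hgen i hi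
    rw [hk]; exact e.zpow_right k)
  -- the conjugates of `t` along the line
  set T : ℤ → G := fun i => g ^ (-i) * t * g ^ i with hT
  have hTconj : ∀ i j : ℤ, g ^ (-j) * T i * g ^ j = T (i + j) := fun i j => by
    simp only [hT]; group
  have hTx : ∀ i : ℤ, x * T i * x = T (-i) := fun i => by
    simp only [hT, neg_neg]
    calc x * (g ^ (-i) * t * g ^ i) * x
        = x * g ^ (-i) * x * (x⁻¹ * t * x) * (x⁻¹ * g ^ i * x) := by group
      _ = g ^ i * t * g ^ (-i) := by
        rw [hxi, hxgi, hxgi, neg_neg, ← htx.eq, mul_assoc t x x, hx2, mul_one]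
  have hT2 : ∀ i, T i * T i = 1 := fun i => by
    simp only [hT]
    rw [show g ^ (-i) * t * g ^ i * (g ^ (-i) * t * g ^ i) = g ^ (-i) * (t * t) * g ^ i by group, ht2,
      mul_one, ← zpow_add, neg_add_cancel, zpow_zero]
  have hT0 : T 0 = t := by simp [hT]
  have hTc : ∀ i, Commute t (T i) := by
    intro i
    by_cases hi : (p : ℤ) ∣ i
    · have h1 : g ^ i = 1 := by
        rw [← orderOf_dvd_iff_zpow_eq_one, hgo]; exact hi
      simp [hT, zpow_neg, h1]
    set s := x * g ^ i with hs
    have hsD : s ∈ D := by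
      obtain ⟨j, hj⟩ : ∃ j : ℤ, g ^ i = g ^ (2 * j) := by
        refine ⟨i * ((p + 1) / 2 : ℕ), ?_⟩
        rw [show (2 : ℤ) * (i * ((p + 1) / 2 : ℕ)) = ((2 * ((p + 1) / 2) : ℕ) : ℤ) * i by push_cast; ring,
          zpow_mul, zpow_natCast, two_half hp2, pow_succ, hgp, one_mul]
      rw [hs, hj, show x * g ^ (2 * j) = (x * g ^ j * x) * x * g ^ j by
        rw [mul_assoc (x * g ^ j) x x, hx2, mul_one, mul_assoc, ← zpow_add, two_mul], hxgi]
      have h1 := h.conj x hx (g ^ (-j))
      rwa [← zpow_neg, neg_neg] at h1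
    have hsx : ¬ Commute x s := fun e => by
      have h1 : Commute x (g ^ i) := by
        have := (Commute.refl x).mul_right e
        rwa [hs, ← mul_assoc, hx2, one_mul] at this
      obtain ⟨k, hk⟩ := hgen i hi
      have h2 : Commute x g := by rw [hk]; exact h1.zpow_right k
      have h3 := (Commute.refl x).mul_right h2
      rw [hg, ← mul_assoc, hx2, one_mul] at h3
      exact hxw h3
    have hsu : ¬ Commute u s := fun e => by
      have h1 : Commute u (g ^ i) := by
        have := hxu.symm.mul_right e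
        rwa [hs, ← mul_assoc, hx2, one_mul] at this
      obtain ⟨k, hk⟩ := hgen i hi
      have h2 : Commute u g := by rw [hk]; exact h1.zpow_right k
      have h3 := hxu.symm.mul_right h2
      rw [hg, ← mul_assoc, hx2, one_mul] at h3
      exact huw h3
    have hgd : t * s * t * s = s * (t * s * t) :=
      (good_commute hp2 h hx hu hsD hne hxu hsx hsu).eq
    have hsts : Commute t (s * t * s) := by
      show t * (s * t * s) = s * t * s * t
      calc t * (s * t * s) = t * s * t * s := by group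
        _ = s * (t * s * t) := hgd
        _ = s * t * s * t := by group
    have : s * t * s = T i := by
      simp only [hT]
      calc s * t * s = (x * g ^ i * x) * (x⁻¹ * t * x) * g ^ i := by rw [hs]; group
        _ = g ^ (-i) * t * g ^ i := by rw [hxgi, hxi, ← htx.eq, mul_assoc t x x, hx2, mul_one]
    rwa [this] at hsts
  have hTcc : ∀ i j, Commute (T i) (T j) := by
    intro i j
    have h1 := (hTc (i - j)).symm.map (MulAut.conj (g ^ (-j))).toMonoidHom
    simp only [MulEquiv.toMonoidHom_eq_coe, MonoidHom.coe_coe, MulAut.conj_apply] at h1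
    rw [← zpow_neg, neg_neg, hTconj, sub_add_cancel] at h1
    have h2 : g ^ (-j) * t * g ^ j = T j := rfl
    rwa [h2] at h1
  set q := T (-1) * T 1 with hq
  have hq2 : q * q = 1 := by
    rw [hq, (hTcc 1 (-1)).mul_mul_mul_comm, hT2, hT2, one_mul]
  have hqt : Commute t q := (hTc _).mul_right (hTc _)
  have hqx : Commute x q := by
    have h1 : x * q * x = q := by
      calc x * q * x = (x * T (-1) * x) * (x⁻¹ * T 1 * x) := by rw [hq]; group
        _ = q := by rw [hxi, hTx, hTx, neg_neg, hq, (hTcc _ _).eq]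
    calc x * q = x * q * (x * x) := by rw [hx2, mul_one]
      _ = x * q * x * x := by group
      _ = q * x := by rw [h1]
  have hq1 : q ≠ 1 := by
    intro e
    have e1 : T (-1) = T 1 := by
      rw [eq_inv_of_mul_eq_one_left e, inv_eq_of_mul_eq_one_right (hT2 1)]
    have e2 := congrArg (fun y => g ^ (-1 : ℤ) * y * g ^ (1 : ℤ)) e1
    simp only [hTconj] at e2
    rw [show (-1 : ℤ) + 1 = 0 from rfl, show (1 : ℤ) + 1 = 2 from rfl, hT0] at e2
    have e2 : t = g ^ (-2 : ℤ) * t * g ^ (2 : ℤ) := e2
    refine htgi 2 (fun hd => hp2 ((Nat.prime_dvd_prime_iff_eq hp.out Nat.prime_two).1 ?_)) ?_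
    · exact_mod_cast hd
    · calc t * g ^ (2 : ℤ) = g ^ (2 : ℤ) * (g ^ (-2 : ℤ) * t * g ^ (2 : ℤ)) := by group
        _ = g ^ (2 : ℤ) * t := by rw [← e2]
  have hqt1 : q ≠ t := by
    intro e
    have e1 := congrArg (fun y => g ^ (-1 : ℤ) * y * g ^ (1 : ℤ)) e
    have h1 : g ^ (-1 : ℤ) * q * g ^ (1 : ℤ) = T 0 * T 2 := by
      rw [hq, show g ^ (-1 : ℤ) * (T (-1) * T 1) * g ^ (1 : ℤ) =
        (g ^ (-1 : ℤ) * T (-1) * g ^ (1 : ℤ)) * (g ^ (-1 : ℤ) * T 1 * g ^ (1 : ℤ)) by group, hTconj, hTconj]
      rfl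
    have h1' : T 0 * T 2 = T 1 := by rw [← h1]; exact e1
    have e2 := congrArg (fun y => g ^ (-1 : ℤ) * y * g ^ (1 : ℤ)) h1'
    have h2 : g ^ (-1 : ℤ) * (T 0 * T 2) * g ^ (1 : ℤ) = T 1 * T 3 := by
      rw [show g ^ (-1 : ℤ) * (T 0 * T 2) * g ^ (1 : ℤ) =
        (g ^ (-1 : ℤ) * T 0 * g ^ (1 : ℤ)) * (g ^ (-1 : ℤ) * T 2 * g ^ (1 : ℤ)) by group, hTconj, hTconj]
      rfl
    have h2' : T 1 * T 3 = T 2 := by
      rw [← h2]; exact e2.trans (hTconj 1 1)
    have h3 : T 3 = T 0 := by
      calc T 3 = T 1 * (T 1 * T 3) := by rw [← mul_assoc, hT2, one_mul]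
        _ = T 1 * (T 0 * (T 0 * T 2)) := by rw [← mul_assoc (T 0), hT2, one_mul, h2']
        _ = T 0 := by rw [h1', (hTcc 0 1).eq, ← mul_assoc, hT2, one_mul]
    rw [hT0] at h3
    have h3 : g ^ (-3 : ℤ) * t * g ^ (3 : ℤ) = t := h3
    refine htgi 3 (fun hd => hp3 ((Nat.prime_dvd_prime_iff_eq hp.out Nat.prime_three).1 ?_)) ?_
    · exact_mod_cast hd
    · calc t * g ^ (3 : ℤ) = g ^ (3 : ℤ) * (g ^ (-3 : ℤ) * t * g ^ (3 : ℤ)) := by group
        _ = g ^ (3 : ℤ) * t := by rw [h3]
  -- the quadrangle
  set a := x * q with ha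
  set e := x * (t * q) with he
  have hT1i : (T 1)⁻¹ = T 1 := inv_eq_of_mul_eq_one_right (hT2 1)
  have haT : T 1 * x * T 1 = a := by
    calc T 1 * x * T 1 = x * (x⁻¹ * T 1 * x) * T 1 := by group
      _ = a := by rw [hxi, hTx, ha, hq, mul_assoc]
  have haD : a ∈ D := by
    have := h.conj x hx (T 1)
    rwa [hT1i, haT] at this
  have heD : e ∈ D := by
    have := h.conj u hu (T 1)
    rw [hT1i, show u = x * t from hxt.symm,
      show T 1 * (x * t) * T 1 = T 1 * x * (t * T 1) by group, (hTc 1).eq, ← mul_assoc, haT, ha,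
      mul_assoc, ← hqt.eq] at this
    exact this
  have hax : Commute a x := (Commute.refl x).mul_left hqx.symm
  have hua : Commute u a := by
    rw [← hxt, ha]
    exact (((Commute.refl x).mul_right hqx).mul_left (htx.mul_right hqt))
  have hae : a * e = t := by
    rw [he, ha, show x * q * (x * (t * q)) = x * (q * x) * (t * q) by group, ← hqx.eq, ← mul_assoc x x q,
      hx2, one_mul, hqt.eq, ← mul_assoc, hq2, one_mul]
  have hxe : Commute x e := by
    rw [he]; exact (Commute.refl x).mul_right (htx.symm.mul_right hqx)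
  have hae' : Commute a e := by
    rw [ha, he]
    exact (Commute.refl x).mul_right (htx.symm.mul_right hqx) |>.mul_left
      ((hqx.symm).mul_right (hqt.symm.mul_right (Commute.refl q)))
  have hau : u ≠ a := fun e' => hqt1 (by
    rw [← hxt, ha] at e'
    exact (mul_left_cancel e').symm)
  have heu : e ≠ u := fun e' => hq1 (by
    rw [← hxt, he] at e'
    exact mul_eq_left.1 (mul_left_cancel e'))
  have huD := hu
  have hux : x * (u * z * u) * x = u * z * u := by
    calc x * (u * z * u) * x = (x * u) * z * (u * x) := by group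
      _ = (u * x) * z * (x * u) := by rw [hxu.eq]
      _ = u * (x * z) * x * u := by group
      _ = u * (z * x) * x * u := by rw [hzx.eq]
      _ = u * z * (x * x) * u := by group
      _ = u * z * u := by rw [hx2, mul_one]
  have htz : t * z * t = u * z * u := by
    rw [ht]
    calc x * u * z * (x * u) = x * u * z * (u * x) := by rw [hxu.eq]
      _ = x * (u * z * u) * x := by group
      _ = u * z * u := hux
  by_cases hza : Commute z a <;> by_cases hze : Commute z e
  · have h1 : Commute z t := hae ▸ hza.mul_right hze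
    exact hzu (hxt ▸ hzx.mul_right h1)
  · refine heu (h.swap_unique hp2 heD huD hz (fun e' => hze e'.symm) (fun e' => hzu e'.symm) ?_)
    rw [← htz, ← hae]
    calc e * z * e = e * (a * a * z) * e := by rw [h.sq a haD, one_mul]
      _ = e * a * (a * z) * e := by group
      _ = e * a * (z * a) * e := by rw [hza.eq]
      _ = (e * a) * z * (a * e) := by group
      _ = a * e * z * (a * e) := by rw [hae'.eq]
  · refine hau (h.swap_unique hp2 huD haD hz (fun e' => hzu e'.symm) (fun e' => hza e'.symm) ?_)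
    rw [← htz, ← hae]
    calc a * e * z * (a * e) = a * (e * z) * (a * e) := by group
      _ = a * (z * e) * (e * a) := by rw [← hze.eq, hae'.eq]
      _ = a * z * (e * e) * a := by group
      _ = a * z * a := by rw [h.sq e heD, mul_one]
  · have h1 := good_commute hp2 h huD haD hz hau hua (fun e' => hzu e'.symm) (fun e' => hza e'.symm)
    refine h.swap_not_commute hp2 heD hz (fun e' => hze e'.symm) ?_
    have hue : u * a = x * e := by
      rw [he, ha, ← hxt, show x * t * (x * q) = x * (t * x) * q by group, htx.eq]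
      group
    rw [hue] at h1
    have h2 : x * e * z * (x * e) = e * z * e := by
      calc x * e * z * (x * e) = (e * x) * z * (x * e) := by rw [hxe.eq]
        _ = e * (x * z) * (x * e) := by group
        _ = e * (z * x) * (x * e) := by rw [hzx.eq]
        _ = e * z * (x * x) * e := by group
        _ = e * z * e := by rw [hx2, mul_one]
    rwa [h2] at h1

end Cfsg.Agent.PTrans
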